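import Groth.Agent.L04.KSix.HalfExact
import Groth.Agent.L10.DRing.TorTest
import Mathlib.RingTheory.Flat.CategoryTheory

/-!
When does tensoring with a flat complex give cohomology keeping injections: flatness of a cokernel.
-/

set_option autoImplicit false
set_option backward.isDefEq.respectTransparency false
set_option backward.isDefEq.respectTransparency.types false

universe u

open CategoryTheory CategoryTheory.Limits MonoidalCategory HomologicalComplex

attribute [local instance] HasDerivedCategory.standard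

noncomputable section

namespace Groth.L04.KSix

variable {R : Type u} [CommRing R]

/-- `N ↦ G ⊗ N`, termwise -/
def FT (G : DRing.Cx R) : ModuleCat.{u} R ⥤ DRing.Cx R where
  obj N := (Groth.L10.DR.tF N).obj G
  map f := (NatTrans.mapHomologicalComplex ((tensoringRight (ModuleCat.{u} R)).map f) (ComplexShape.up ℤ)).app G
  map_id N := by ext i : 1; simp
  map_comp f g := by ext i : 1; simp

theorem FT_map_f (G : DRing.Cx R) {N N' : ModuleCat.{u} R} (f : N ⟶ N') (i : ℤ) :
    ((FT G).map f).f i = G.X i ◁ f := rfl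

instance (G : DRing.Cx R) : (FT G).Additive where
  map_add {N N' f g} := by
    ext i : 1
    rw [HomologicalComplex.add_f_apply, FT_map_f, FT_map_f, FT_map_f, MonoidalPreadditive.whiskerLeft_add]

theorem shortExact_FT {G : DRing.Cx R} (hG : DRing.TermwiseFlat G) (S : ShortComplex (ModuleCat.{u} R))
    (hS : S.ShortExact) : (S.map (FT G)).ShortExact := by
  refine shortExact_of_degreewise_shortExact _ fun i => ?_
  haveI := hG i
  haveI : PreservesFiniteLimits (tensorLeft (G.X i)) := inferInstance
  exact ShortComplex.shortExact_of_iso (ShortComplex.isoMk (Iso.refl _) (Iso.refl _) (Iso.refl _)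
    (by simp [FT_map_f]) (by simp [FT_map_f])) (hS.map_of_exact (tensorLeft (G.X i)))

/-- the cokernel of `d` computes opcycles of `G ⊗ N` -/
theorem monoO_iff (G : DRing.Cx R) (n : ℤ) :
    MonoO (FT G) n ↔ Module.Flat R (cokernel (G.d (n - 1) n) : ModuleCat.{u} R) := by
  let C := G.opcycles n
  have hC : Module.Flat R (cokernel (G.d (n - 1) n) : ModuleCat.{u} R) ↔ Module.Flat R C :=
    Module.Flat.equiv_iff (IsColimit.coconePointUniqueUpToIso (cokernelIsCokernel (G.d (n - 1) n))
      (G.opcyclesIsCokernel (n - 1) n (by simp))).toLinearEquiv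
  let h1 : ∀ N : ModuleCat.{u} R, IsColimit (CokernelCofork.ofπ (((FT G).obj N).pOpcycles n) _) := fun N =>
    ((FT G).obj N).opcyclesIsCokernel (n - 1) n (by simp)
  let h2 := fun N : ModuleCat.{u} R => CokernelCofork.mapIsColimit _ (G.opcyclesIsCokernel (n - 1) n (by simp))
    (tensorRight N)
  let e : ∀ N : ModuleCat.{u} R, ((FT G).obj N).opcycles n ≅ C ⊗ N := fun N =>
    IsColimit.coconePointUniqueUpToIso (h1 N) (h2 N)
  have hp : ∀ N, ((FT G).obj N).pOpcycles n ≫ (e N).hom = G.pOpcycles n ▷ N := fun N =>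
    IsColimit.comp_coconePointUniqueUpToIso_hom (h1 N) (h2 N) WalkingParallelPair.one
  have hnat : ∀ {N N' : ModuleCat.{u} R} (f : N ⟶ N'),
      opcyclesMap ((FT G).map f) n ≫ (e N').hom = (e N).hom ≫ C ◁ f := by
    intro N N' f
    rw [← cancel_epi (((FT G).obj N).pOpcycles n), p_opcyclesMap_assoc, hp, reassoc_of% hp, FT_map_f]
    exact whisker_exchange _ _
  rw [hC, Module.Flat.iff_lTensor_preserves_injective_linearMap]
  constructor
  · intro h N N' _ _ _ _ f hf
    haveI : Mono (ModuleCat.ofHom f) := (ModuleCat.mono_iff_injective _).2 hf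
    haveI := h (ModuleCat.ofHom f) inferInstance
    have : Mono (C ◁ ModuleCat.ofHom f) := by
      rw [show C ◁ ModuleCat.ofHom f = (e _).inv ≫ opcyclesMap ((FT G).map (ModuleCat.ofHom f)) n ≫ (e _).hom by
        rw [hnat, Iso.inv_hom_id_assoc]]
      infer_instance
    exact (ModuleCat.mono_iff_injective _).1 this
  · intro h A B f hf
    haveI : Mono (C ◁ f) := (ModuleCat.mono_iff_injective _).2 (h f.hom ((ModuleCat.mono_iff_injective f).1 hf))
    rw [show opcyclesMap ((FT G).map f) n = (e _).hom ≫ C ◁ f ≫ (e _).inv by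
      rw [← reassoc_of% hnat, Iso.hom_inv_id, Category.comp_id]]
    infer_instance

theorem monoH_iff_flat {G : DRing.Cx R} (hG : DRing.TermwiseFlat G) (n : ℤ) :
    MonoH (FT G) n ↔ Module.Flat R (cokernel (G.d (n - 1) n) : ModuleCat.{u} R) :=
  (monoH_iff_monoO (shortExact_FT hG) n).trans (monoO_iff G n)

/-- the comparison induced by a chain map -/
def FTmap {P G : DRing.Cx R} (β : P ⟶ G) : FT P ⟶ FT G where
  app N := (Groth.L10.DR.tF N).map β
  naturality N N' f := by
    ext i : 1
    exact whisker_exchange (β.f i) f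

theorem isIso_homologyMap_of_approx {P G : DRing.Cx R} (β : P ⟶ G) {bP bG : ℤ}
    (hP : DRing.TermwiseFlat P) (hPb : DRing.VanishesAbove P bP) (hG : DRing.TermwiseFlat G)
    (hGb : DRing.VanishesAbove G bG) {m : ℤ} (hβ : Groth.L02.PC.IsApprox (DerivedCategory.Q.map β) m)
    (N : ModuleCat.{u} R) (n : ℤ) (hn : m < n) : IsIso (homologyMap ((Groth.L10.DR.tF N).map β) n) := by
  have hM : Groth.L02.PC.LEH (DRing.toD (CochainComplex.mappingCone β)) (m - 1) := fun i hi =>
    (Groth.L02.PC.isZero_HH_Q_iff _ i).2 ((Groth.L02.PC.isApprox_Q_map_iff β m).1 hβ i (by omega))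
  obtain ⟨Q, hQb, hQf, -, ⟨eQ⟩⟩ := Groth.L02.PC.exists_free_rep hM
  have hzM : ∀ i, m ≤ i → Groth.L10.DR.TZ (CochainComplex.mappingCone β) i := fun i hi =>
    (Groth.L10.DR.tz_iff_of_iso eQ hQb (Groth.L10.DR.flat_of_free hQf)
      (Groth.L10.DR.vanishesAbove_cone β hPb hGb) (Groth.L10.DR.flat_coneX β hP hG) i).1
      fun N => (HomologicalComplex.exactAt_iff_isZero_homology _ i).1
        (HomologicalComplex.ExactAt.of_isZero ((MonoidalCategory.tensorRight N).map_isZero (hQb i (by omega))))
  have happ : Groth.L02.PC.IsApprox (DerivedCategory.Q.map ((Groth.L10.DR.tF N).map β)) m :=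
    (Groth.L02.PC.isApprox_Q_map_iff _ _).2 fun i hi => (hzM i (by omega) N).of_iso
      (asIso (HomologicalComplex.homologyMap
        (CochainComplex.mappingCone.mapHomologicalComplexIso β (MonoidalCategory.tensorRight N)).hom i)).symm
  exact (NatIso.isIso_map_iff (DerivedCategory.homologyFunctorFactors _ n) ((Groth.L10.DR.tF N).map β)).1
    (happ.1 n hn)

/-- approximations do not change the property above their degree -/
theorem monoH_congr {P G : DRing.Cx R} (β : P ⟶ G) {bP bG : ℤ}
    (hP : DRing.TermwiseFlat P) (hPb : DRing.VanishesAbove P bP) (hG : DRing.TermwiseFlat G)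
    (hGb : DRing.VanishesAbove G bG) {m : ℤ} (hβ : Groth.L02.PC.IsApprox (DerivedCategory.Q.map β) m)
    (n : ℤ) (hn : m < n) : MonoH (FT P) n ↔ MonoH (FT G) n := by
  let τ := Functor.whiskerRight (FTmap β) (homologyFunctor (ModuleCat.{u} R) (ComplexShape.up ℤ) n)
  haveI : ∀ N, IsIso (τ.app N) := fun N => isIso_homologyMap_of_approx β hP hPb hG hGb hβ N n hn
  haveI := NatIso.isIso_of_isIso_app τ
  refine forall₂_congr fun A B => forall₂_congr fun f _ => ?_
  exact (MorphismProperty.monomorphisms _).arrow_mk_iso_iff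
    (Arrow.isoMk ((asIso τ).app A) ((asIso τ).app B) (τ.naturality f).symm)

theorem flat_coker_congr {P G : DRing.Cx R} (β : P ⟶ G) {bP bG : ℤ}
    (hP : DRing.TermwiseFlat P) (hPb : DRing.VanishesAbove P bP) (hG : DRing.TermwiseFlat G)
    (hGb : DRing.VanishesAbove G bG) {m : ℤ} (hβ : Groth.L02.PC.IsApprox (DerivedCategory.Q.map β) m)
    (n : ℤ) (hn : m < n) :
    Module.Flat R (cokernel (P.d (n - 1) n) : ModuleCat.{u} R) ↔
      Module.Flat R (cokernel (G.d (n - 1) n) : ModuleCat.{u} R) := by
  rw [← monoH_iff_flat hP, ← monoH_iff_flat hG]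
  exact monoH_congr β hP hPb hG hGb hβ n hn

end Groth.L04.KSix
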