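import Groth.Agent.L29.DCoh.PCStalk
import Groth.Agent.L29.DCoh.FreeIso
import Groth.Agent.L02.PC.Basic
import Groth.Prelude.Def_DerSch

/-!
Stalk maps out of finite free modules spread to neighbourhoods; stalks of restricted complexes.
-/

set_option autoImplicit false
set_option backward.isDefEq.respectTransparency false
set_option backward.isDefEq.respectTransparency.types false
set_option linter.style.haveILetI false

universe u

open CategoryTheory CategoryTheory.Limits AlgebraicGeometry Opposite HomologicalComplex Groth.L29.DC.Fib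

attribute [local instance] preservesBinaryBiproducts_of_preservesBinaryCoproducts HasDerivedCategory.standard

noncomputable section

namespace Groth.L04.KSix

open Groth.L00 (Stk.F Stk.S)

variable {X W : Scheme.{u}}

/-- stalks of restrictions over the local rings -/
def resStalk (j : W ⟶ X) [IsOpenImmersion j] (w : W) :
    Scheme.Modules.restrictFunctor j ⋙ Groth.L00.Stk.F W w ≅
      Groth.L00.Stk.F X (j w) ⋙ ModuleCat.extendScalars (Groth.L00.PullStalk.φ j w) :=
  Functor.isoWhiskerRight (Scheme.Modules.restrictFunctorIsoPullback j) _ ≪≫ Groth.L00.PullStalk.stalkIso j w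

/-- extension of scalars on complexes -/
abbrev extCx (j : W ⟶ X) [IsOpenImmersion j] (w : W) :=
  (ModuleCat.extendScalars.{u, u, u} (Groth.L00.PullStalk.φ j w)).mapHomologicalComplex (ComplexShape.up ℤ)

/-- stalks of restricted complexes -/
def resStalkCx (j : W ⟶ X) [IsOpenImmersion j] (w : W) (E : CochainComplex X.Modules ℤ) :
    (Groth.L00.Stk.S W w).obj (((Scheme.Modules.restrictFunctor j).mapHomologicalComplex (ComplexShape.up ℤ)).obj E) ≅
      (extCx j w).obj ((Groth.L00.Stk.S X (j w)).obj E) :=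
  HomologicalComplex.Hom.isoOfComponents (fun i => (resStalk j w).app (E.X i))
    (fun i k _ => ((resStalk j w).hom.naturality (E.d i k)).symm)

theorem preservesLimits_ext (j : W ⟶ X) [IsOpenImmersion j] (w : W) :
    PreservesFiniteLimits (ModuleCat.extendScalars.{u, u, u} (Groth.L00.PullStalk.φ j w)) :=
  ModuleCat.preservesFiniteLimits_extendScalars_of_flat (AlgebraicGeometry.Flat.stalkMap j w)

theorem preservesColimits_ext (j : W ⟶ X) [IsOpenImmersion j] (w : W) :
    PreservesFiniteColimits (ModuleCat.extendScalars.{u, u, u} (Groth.L00.PullStalk.φ j w)) :=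
  haveI : PreservesColimitsOfSize.{0, 0} (ModuleCat.extendScalars.{u, u, u} (Groth.L00.PullStalk.φ j w)) :=
    (ModuleCat.extendRestrictScalarsAdj (Groth.L00.PullStalk.φ j w)).leftAdjoint_preservesColimits
  PreservesColimitsOfSize.preservesFiniteColimits.{0, 0} _

variable {x : X}

/-- the germ of the `k`-th coordinate vector -/
def gen (x : X) (n : ℕ) (k : Fin n) : (Groth.L00.Stk.F X x).obj (FlatMod.freeMod X n) :=
  (Groth.L00.Stk.F X x).map (incl n k) (Groth.L22.oneGerm x)

theorem map_oneGerm {M : X.Modules} (a : Coh.structureModule X ⟶ M) (y : X) :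
    ((Groth.L00.Stk.F X y).map a).hom (Groth.L22.oneGerm y) =
      M.presheaf.germ ⊤ y trivial (a.app ⊤ (1 : Γ(X, ⊤))) :=
  DerSch.stalkFunctor_map_germ y a ⊤ trivial _

theorem free_hom_ext {n : ℕ} {M : ModuleCat.{u} (X.presheaf.stalk x)}
    {f g : (Groth.L00.Stk.F X x).obj (FlatMod.freeMod X n) ⟶ M}
    (h : ∀ k, f (gen x n k) = g (gen x n k)) : f = g := by
  let F := Groth.L00.Stk.F X x
  ext v
  have hv : v = ∑ k : Fin n, (F.map (incl n k)).hom ((F.map (proj n k)).hom v) := by
    conv_lhs => rw [show v = (F.map (∑ k : Fin n, proj n k ≫ incl n k)).hom v by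
      rw [sum_proj_incl, CategoryTheory.Functor.map_id]; rfl]
    rw [Functor.map_sum, ModuleCat.hom_sum, LinearMap.sum_apply]
    exact Finset.sum_congr rfl fun k _ => by rw [Functor.map_comp]; rfl
  rw [hv, map_sum, map_sum]
  refine Finset.sum_congr rfl fun k _ => ?_
  obtain ⟨a, ha⟩ := Groth.L22.stalk_smul_oneGerm_surjective x ((F.map (proj n k)).hom v)
  rw [show (F.map (proj n k)).hom v = a • Groth.L22.oneGerm x from ha.symm, map_smul, map_smul, map_smul]
  exact congrArg (a • ·) (h k)

/-- a map out of a finite free module which vanishes at a stalk vanishes nearby -/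
theorem exists_nhd_zero {n : ℕ} {M : X.Modules} (h : FlatMod.freeMod X n ⟶ M)
    (h0 : (Groth.L00.Stk.F X x).map h = 0) :
    ∃ O : X.Opens, x ∈ O ∧ ∀ (Y : Scheme.{u}) (j : Y ⟶ X) [IsOpenImmersion j],
      j.opensRange ≤ O → (Scheme.Modules.restrictFunctor j).map h = 0 := by
  classical
  let s : Fin n → Γ(M, ⊤) := fun k => (incl n k ≫ h).app ⊤ (1 : Γ(X, ⊤))
  have hs : ∀ k, M.presheaf.germ ⊤ x trivial (s k) = 0 := fun k => by
    rw [← map_oneGerm, Functor.map_comp, h0, comp_zero]
    rfl
  have hV : ∀ k, ∃ V : X.Opens, x ∈ V ∧ ∀ y (hy : y ∈ V), M.presheaf.germ ⊤ y trivial (s k) = 0 := fun k => by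
    obtain ⟨U, hxU, i, i', hU⟩ := M.presheaf.germ_eq x (show x ∈ (⊤ : X.Opens) from trivial) (show x ∈ (⊤ : X.Opens) from trivial) (s k) 0 (by rw [hs, map_zero])
    refine ⟨U, hxU, fun y hy => ?_⟩
    rw [← TopCat.Presheaf.germ_res_apply M.presheaf i y hy, hU, map_zero, map_zero]
  choose V hxV hV using hV
  refine ⟨Finset.univ.inf V, ?_, fun Y j _ hj => ?_⟩
  · show x ∈ ((Finset.univ.inf V : X.Opens) : Set X)
    rw [TopologicalSpace.Opens.coe_finset_inf]
    simp [hxV]
  rw [Groth.L21.Mod.eq_zero_iff_stalk]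
  intro y
  rw [Groth.L21.Mod.restrict_stalk_map]
  have hz : (Groth.L21.Mod.stalkF X (j y)).map h = 0 := by
    have e : (Groth.L00.Stk.F X (j y)).map h = 0 := free_hom_ext fun k => by
      show ((Groth.L00.Stk.F X (j y)).map h).hom (((Groth.L00.Stk.F X (j y)).map (incl n k)).hom _) = 0
      rw [← ModuleCat.comp_apply, ← Functor.map_comp, map_oneGerm]
      exact hV k _ (Finset.inf_le (f := V) (Finset.mem_univ k) (hj ⟨y, rfl⟩))
    ext v
    exact congrArg (fun f => f.hom v) e
  rw [hz, zero_comp, comp_zero]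

/-- finitely many germs are germs of sections over one open -/
theorem exists_sections {ι : Type*} [Finite ι] (M : ι → X.Modules) (e : ∀ k, (M k).presheaf.stalk x) :
    ∃ (W : X.Opens) (hx : x ∈ W) (t : ∀ k, Γ(M k, W)), ∀ k, (M k).presheaf.germ W x hx (t k) = e k := by
  classical
  cases nonempty_fintype ι
  have h := fun k => TopCat.Presheaf.exists_germ_eq (M k).presheaf (e k)
  choose V hxV t ht using h
  refine ⟨Finset.univ.inf V, ?_, fun k => (M k).presheaf.map (homOfLE (Finset.inf_le (Finset.mem_univ k))).op (t k),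
    fun k => by rw [TopCat.Presheaf.germ_res_apply, ht]⟩
  show x ∈ ((Finset.univ.inf V : X.Opens) : Set X)
  rw [TopologicalSpace.Opens.coe_finset_inf]
  simp [hxV]

/-- `j_* j^*` for an open -/
abbrev pr (W : X.Opens) : X.Modules ⥤ X.Modules :=
  Scheme.Modules.restrictFunctor W.ι ⋙ Scheme.Modules.pushforward W.ι

/-- the unit -/
abbrev prη (W : X.Opens) : 𝟭 X.Modules ⟶ pr W := (Scheme.Modules.restrictAdjunction W.ι).unit

theorem isIso_res_η {W : X.Opens} (M : X.Modules) {Y : Scheme.{u}} (j : Y ⟶ X) [IsOpenImmersion j]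
    (hj : j.opensRange ≤ W) : IsIso ((Scheme.Modules.restrictFunctor j).map ((prη W).app M)) := by
  haveI h1 : IsIso ((Scheme.Modules.restrictFunctor W.ι).map ((prη W).app M)) :=
    haveI : IsIso ((Scheme.Modules.restrictFunctor W.ι).map ((prη W).app M) ≫
        (Scheme.Modules.restrictAdjunction W.ι).counit.app ((Scheme.Modules.restrictFunctor W.ι).obj M)) := by
      erw [(Scheme.Modules.restrictAdjunction W.ι).left_triangle_components]
      infer_instance
    IsIso.of_isIso_comp_right _
      ((Scheme.Modules.restrictAdjunction W.ι).counit.app ((Scheme.Modules.restrictFunctor W.ι).obj M))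
  let k : Y ⟶ (W : Scheme.{u}) := IsOpenImmersion.lift W.ι j (by
    rw [Scheme.Opens.range_ι]
    exact hj)
  have hk : k ≫ W.ι = j := IsOpenImmersion.lift_fac _ _ _
  haveI : IsOpenImmersion (k ≫ W.ι) := by rw [hk]; infer_instance
  haveI : IsOpenImmersion k := IsOpenImmersion.of_comp k W.ι
  rw [← NatIso.isIso_map_iff (Groth.L29.DC.resTrans W.ι k j hk)]
  change IsIso ((Scheme.Modules.restrictFunctor k).map ((Scheme.Modules.restrictFunctor W.ι).map _))
  infer_instance

theorem isIso_stalk_η {W : X.Opens} (hx : x ∈ W) (M : X.Modules) :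
    IsIso ((Groth.L00.Stk.F X x).map ((prη W).app M)) := by
  haveI : IsIso ((Groth.L21.Mod.stalkF X x).map ((prη W).app M)) := by
    have h := (Groth.L21.Mod.isIso_iff_stalk _).1 (isIso_res_η (W := W) M W.ι (by rw [Scheme.Opens.opensRange_ι]))
      (⟨x, hx⟩ : W.toScheme)
    rw [Groth.L21.Mod.restrict_stalk_map] at h
    exact ((MorphismProperty.isomorphisms AddCommGrpCat.{u}).cancel_right_of_respectsIso _ _).1
        (((MorphismProperty.isomorphisms AddCommGrpCat.{u}).cancel_left_of_respectsIso _ _).1 h)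
  exact (ConcreteCategory.isIso_iff_bijective _).2
    (ConcreteCategory.bijective_of_isIso ((Groth.L21.Mod.stalkF X x).map ((prη W).app M)))

/-- stalk maps out of free modules spread to maps into `j_* j^*` -/
def liftHom {n : ℕ} {M : X.Modules} {W : X.Opens} (t : Fin n → Γ(M, W)) :
    FlatMod.freeMod X n ⟶ (pr W).obj M :=
  Sigma.desc fun k => Groth.L16.homOfSection ((pr W).obj M)
    (show Γ((pr W).obj M, ⊤) from M.presheaf.map (homOfLE (W.ι_image_le (W.ι ⁻¹ᵁ ⊤))).op (t k))

theorem stalk_liftHom {n : ℕ} {M : X.Modules} {W : X.Opens} (hx : x ∈ W) (t : Fin n → Γ(M, W)) (k : Fin n) :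
    ((Groth.L00.Stk.F X x).map (liftHom t)).hom (gen x n k) =
      ((Groth.L00.Stk.F X x).map ((prη W).app M)).hom (M.presheaf.germ W x hx (t k)) := by
  show ((Groth.L00.Stk.F X x).map (liftHom t)).hom (((Groth.L00.Stk.F X x).map (incl n k)).hom _) = _
  rw [← ModuleCat.comp_apply, ← Functor.map_comp, map_oneGerm]
  let o : Γ((pr W).obj M, ⊤) := M.presheaf.map (homOfLE (W.ι_image_le (W.ι ⁻¹ᵁ ⊤))).op (t k)
  have h1 : (incl n k ≫ liftHom t).app ⊤ (1 : Γ(X, ⊤)) = o := by
    rw [show incl n k ≫ liftHom t = Groth.L16.homOfSection ((pr W).obj M) o from Sigma.ι_desc _ _,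
      Groth.L16.homOfSection_app, one_smul]
    exact congr($(((pr W).obj M).presheaf.map_id (op ⊤)) o)
  have h2 : ((pr W).obj M).presheaf.map (homOfLE (le_top : W ≤ ⊤)).op o = ((prη W).app M).app W (t k) := by
    rw [Scheme.Modules.restrictAdjunction_unit_app_app]
    show M.presheaf.map _ (M.presheaf.map _ (t k)) = M.presheaf.map _ (t k)
    rw [← ConcreteCategory.comp_apply, ← Functor.map_comp]
    exact congrArg (fun f => M.presheaf.map f (t k)) (Subsingleton.elim _ _)
  rw [h1, ← TopCat.Presheaf.germ_res_apply ((pr W).obj M).presheaf (homOfLE (le_top : W ≤ ⊤)) x hx o, h2]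
  exact (DerSch.stalkFunctor_map_germ x ((prη W).app M) W hx (t k)).symm

/-- A chain map between stalk complexes out of a bounded complex of finite free modules spreads out. -/
theorem exists_chainMap_nhd {P F : CochainComplex X.Modules ℤ} (a b : ℤ)
    (hP : ∀ i, i < a ∨ b < i → IsZero (P.X i)) (n : ℤ → ℕ) (e : ∀ i, P.X i ≅ FlatMod.freeMod X (n i))
    (γ : (Groth.L00.Stk.S X x).obj P ⟶ (Groth.L00.Stk.S X x).obj F) :
    ∃ (O : X.Opens) (hx : x ∈ O) (β : (DCoh.restrictCx O).obj P ⟶ (DCoh.restrictCx O).obj F),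
      (Groth.L00.Stk.S (O : Scheme.{u}) ⟨x, hx⟩).map β =
        (resStalkCx O.ι (⟨x, hx⟩ : O) P).hom ≫ (extCx O.ι (⟨x, hx⟩ : O)).map γ ≫
          (resStalkCx O.ι (⟨x, hx⟩ : O) F).inv := by
  classical
  let S := Groth.L00.Stk.F X x
  let n' : ℤ → ℕ := fun i => if i < a ∨ b < i then 0 else n i
  have e' : ∀ i, P.X i ≅ FlatMod.freeMod X (n' i) := fun i =>
    if h : i < a ∨ b < i then
      (hP i h).iso (by
        simp only [n', if_pos h]
        rw [IsZero.iff_id_eq_zero]
        exact Sigma.hom_ext _ _ fun q => q.elim0)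
    else e i ≪≫ eqToIso (by simp only [n', if_neg h])
  have hin : ∀ i, ∀ _k : Fin (n' i), i ∈ Finset.Icc a b := fun i k => by
    rw [Finset.mem_Icc]
    by_contra h
    have := k.pos
    simp only [n', if_pos (show i < a ∨ b < i by omega)] at this
    omega
  let ι := Σ i : (Finset.Icc a b : Finset ℤ), Fin (n' i.1)
  obtain ⟨W, hxW, t, ht⟩ := exists_sections (x := x) (fun q : ι => F.X q.1.1)
    (fun q => (γ.f q.1.1).hom ((S.map (e' q.1.1).inv).hom (gen x _ q.2)))
  let β₀ : ∀ i, P.X i ⟶ (pr W).obj (F.X i) := fun i =>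
    (e' i).hom ≫ liftHom fun k => t ⟨⟨i, hin i k⟩, k⟩
  have hβ₀ : ∀ i, S.map (β₀ i) = γ.f i ≫ S.map ((prη W).app (F.X i)) := fun i => by
    rw [← cancel_epi (S.map (e' i).inv), ← Functor.map_comp]
    simp only [β₀, Iso.inv_hom_id_assoc]
    refine free_hom_ext fun k => ?_
    rw [stalk_liftHom hxW]
    simp only [ModuleCat.comp_apply]
    exact congrArg _ (ht ⟨⟨i, hin i k⟩, k⟩)
  let D : ∀ i, FlatMod.freeMod X (n' i) ⟶ (pr W).obj (F.X (i + 1)) := fun i =>
    (e' i).inv ≫ (β₀ i ≫ (pr W).map (F.d i (i + 1)) - P.d i (i + 1) ≫ β₀ (i + 1))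
  have hD : ∀ i, S.map (D i) = 0 := fun i => by
    simp only [D, Functor.map_comp, Functor.map_sub, hβ₀]
    have h1 : γ.f i ≫ S.map (F.d i (i + 1)) = S.map (P.d i (i + 1)) ≫ γ.f (i + 1) := γ.comm i (i + 1)
    have h2 := congrArg S.map ((prη W).naturality (F.d i (i + 1)))
    simp only [Functor.id_map, Functor.map_comp] at h2
    rw [Category.assoc, ← h2, ← Category.assoc, h1, Category.assoc, sub_self, comp_zero]
  have hO := fun i : (Finset.Icc a b : Finset ℤ) => exists_nhd_zero (x := x) (D i.1) (hD i.1)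
  choose V hxV hV using hO
  let O : X.Opens := W ⊓ Finset.univ.inf V
  have hxO : x ∈ O := ⟨hxW, by
    show x ∈ ((Finset.univ.inf V : X.Opens) : Set X)
    rw [TopologicalSpace.Opens.coe_finset_inf]
    simp [hxV]⟩
  have hOW : O.ι.opensRange ≤ W := by rw [Scheme.Opens.opensRange_ι]; exact inf_le_left
  let R := Scheme.Modules.restrictFunctor O.ι
  have hD0 : ∀ i, R.map (D i) = 0 := fun i => by
    by_cases hi : i ∈ Finset.Icc a b
    · refine hV ⟨i, hi⟩ _ O.ι ?_
      rw [Scheme.Opens.opensRange_ι]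
      exact inf_le_right.trans (Finset.inf_le (Finset.mem_univ _))
    · rw [Finset.mem_Icc] at hi
      rw [show D i = 0 from ((hP i (by omega)).of_iso (e' i).symm).eq_of_src _ _, R.map_zero]
  haveI : ∀ i, IsIso (R.map ((prη W).app (F.X i))) := fun i => isIso_res_η _ O.ι hOW
  let β : (DCoh.restrictCx O).obj P ⟶ (DCoh.restrictCx O).obj F :=
    { f := fun i => R.map (β₀ i) ≫ inv (R.map ((prη W).app (F.X i)))
      comm' := fun i k hk => by
        obtain rfl : i + 1 = k := hk
        have h0 : R.map (β₀ i ≫ (pr W).map (F.d i (i + 1))) = R.map (P.d i (i + 1) ≫ β₀ (i + 1)) := by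
          rw [← sub_eq_zero, ← R.map_sub]
          have := hD0 i
          simp only [D, Functor.map_comp] at this
          exact (cancel_epi (R.map (e' i).inv)).1 (by rw [this, comp_zero])
        have h2 := congrArg R.map ((prη W).naturality (F.d i (i + 1)))
        simp only [Functor.id_map, Functor.map_comp] at h2 h0
        show (R.map (β₀ i) ≫ inv (R.map ((prη W).app (F.X i)))) ≫ R.map (F.d i (i + 1)) =
          R.map (P.d i (i + 1)) ≫ R.map (β₀ (i + 1)) ≫ inv (R.map ((prη W).app (F.X (i + 1))))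
        rw [← reassoc_of% h0, ← cancel_mono (R.map ((prη W).app (F.X (i + 1))))]
        simp only [Category.assoc, IsIso.inv_hom_id, Category.comp_id, h2, IsIso.inv_hom_id_assoc]
        rfl }
  refine ⟨O, hxO, β, ?_⟩
  let w : (O : Scheme.{u}) := ⟨x, hxO⟩
  ext i : 1
  show (Groth.L00.Stk.F (O : Scheme.{u}) w).map (R.map (β₀ i) ≫ inv (R.map ((prη W).app (F.X i)))) =
    (resStalk O.ι w).hom.app (P.X i) ≫ (ModuleCat.extendScalars (Groth.L00.PullStalk.φ O.ι w)).map (γ.f i) ≫
      (resStalk O.ι w).inv.app (F.X i)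
  rw [Functor.map_comp, Functor.map_inv, IsIso.comp_inv_eq]
  have n1 := (resStalk O.ι w).hom.naturality (β₀ i)
  have n2 := (resStalk O.ι w).inv.naturality ((prη W).app (F.X i))
  simp only [Functor.comp_map] at n1 n2
  rw [← cancel_mono ((resStalk O.ι w).hom.app _)]
  simp only [Category.assoc]
  erw [n1, ← reassoc_of% n2, Iso.inv_hom_id_app, Category.comp_id]
  erw [hβ₀ i, Functor.map_comp]
  rfl

end Groth.L04.KSix
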