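import Groth.Agent.L29.DCoh.Amplitude
import Groth.Agent.L29.DCoh.CokerLocFree
import Groth.Agent.L29.DCoh.FibreLocal
import Groth.Agent.L04.KSix.NearStalk
import Groth.Agent.L04.KSix.FlatCoker
import Groth.Agent.L29.DCoh.PerfDescent

/-!
Cohomology and fibre dimensions of a pseudo-coherent object in a degree where two cokernels are flat.
-/

set_option autoImplicit false
set_option backward.isDefEq.respectTransparency false
set_option backward.isDefEq.respectTransparency.types false
set_option linter.style.haveILetI false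

universe u

open CategoryTheory CategoryTheory.Limits AlgebraicGeometry Opposite HomologicalComplex
open Groth.L29.DC Groth.L29.DC.PCStalk

attribute [local instance] HasDerivedCategory.standard

noncomputable section

namespace Groth.L04.KSix

variable {X : Scheme.{u}}

/-- cohomology is locally free between locally free cokernels -/
theorem isFinLocFree_homology {P : CochainComplex X.Modules ℤ} (p : ℤ)
    (h₁ : FlatMod.IsFinLocFree (P.X (p + 1))) (hc : FlatMod.IsFinLocFree (cokernel (P.d (p - 1) p)))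
    (hc' : FlatMod.IsFinLocFree (cokernel (P.d p (p + 1)))) : FlatMod.IsFinLocFree (P.homology p) := by
  let f := P.fromOpcycles p (p + 1)
  have hO : FlatMod.IsFinLocFree (P.opcycles p) := Groth.L29.LocFree.of_iso
    (IsColimit.coconePointUniqueUpToIso (cokernelIsCokernel (P.d (p - 1) p))
      (P.opcyclesIsCokernel (p - 1) p (by simp))) hc
  have hcf : FlatMod.IsFinLocFree (cokernel f) := Groth.L29.LocFree.of_iso
    (cokernelIsoOfEq (P.p_fromOpcycles p (p + 1)).symm ≪≫ cokernelEpiComp (P.pOpcycles p) f) hc'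
  have hI : FlatMod.IsFinLocFree (Abelian.image f) := isFinLocFree_kernel_of_epi (cokernel.π f) h₁ hcf
  have hk := isFinLocFree_kernel_of_epi (Abelian.factorThruImage f) hO hI
  refine Groth.L29.LocFree.of_iso ?_ hk
  exact (kernelCompMono (Abelian.factorThruImage f) (Abelian.image.ι f)).symm ≪≫
    kernelIsoOfEq (Abelian.image.fac f) ≪≫
    IsLimit.conePointUniqueUpToIso (kernelIsKernel f) (P.homologyIsKernel p (p + 1) (by simp))

section Rank

open Groth.L29.DC.Fib

variable {x : X} {K : Type u} [Field K] (ρ : X.presheaf.stalk x →+* K)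

theorem rk_add_coker {M N : X.Modules} (f : M ⟶ N) {m b : ℕ} (e : N ≅ FlatMod.freeMod X m)
    (e' : cokernel f ≅ FlatMod.freeMod X b) : rk ρ f + b = m := by
  haveI : PreservesColimitsOfSize.{0, 0} (ModuleCat.extendScalars.{u, u, u} ρ) :=
    (ModuleCat.extendRestrictScalarsAdj ρ).leftAdjoint_preservesColimits
  haveI : PreservesFiniteColimits (ModuleCat.extendScalars.{u, u, u} ρ) :=
    PreservesColimitsOfSize.preservesFiniteColimits.{0, 0} _
  haveI : PreservesFiniteColimits (Φ ρ) := comp_preservesFiniteColimits _ _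
  haveI := finiteDimensional_Φ_of_iso ρ e
  let S := (ShortComplex.mk f (cokernel.π f) (cokernel.condition f)).map (Φ ρ)
  have T : PreservesFiniteColimits (Φ ρ) → ∀ S : ShortComplex X.Modules, S.Exact ∧ Epi S.g →
      (S.map (Φ ρ)).Exact ∧ Epi ((Φ ρ).map S.g) := ((Φ ρ).preservesFiniteColimits_tfae.out 3 1).1
  obtain ⟨hex, hepi⟩ : S.Exact ∧ Epi S.g := T inferInstance _
      ⟨ShortComplex.exact_of_g_is_cokernel _ (cokernelIsCokernel f), inferInstanceAs (Epi (cokernel.π f))⟩
  have h1 := LinearMap.finrank_range_add_finrank_ker ((Φ ρ).map (cokernel.π f)).hom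
  have h2 : LinearMap.range ((Φ ρ).map (cokernel.π f)).hom = ⊤ :=
    LinearMap.range_eq_top.2 ((ModuleCat.epi_iff_surjective S.g).1 hepi)
  have h3 : LinearMap.range ((Φ ρ).map f).hom = LinearMap.ker ((Φ ρ).map (cokernel.π f)).hom :=
    hex.moduleCat_range_eq_ker
  rw [h2, finrank_top, finrank_Φ_of_iso ρ e', ← h3, finrank_Φ_of_iso ρ e] at h1
  unfold rk
  omega

end Rank

theorem flat_coker_of_approx_D {P G : CochainComplex X.Modules ℤ} {bP bG : ℤ}
    (hP : DCoh.IsStrictlyPerfect P) (hPb : ∀ i, bP < i → IsZero (P.X i))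
    (hG : ∀ i, FlatMod.IsFlat (G.X i)) (hGb : ∀ i, bG < i → IsZero (G.X i))
    {n : ℤ → ℕ} (e : ∀ i, P.X i ≅ FlatMod.freeMod X (n i))
    (α : DCoh.toD X P ⟶ DCoh.toD X G) {m : ℤ} (hα : Approx α m) (q : ℤ) (hq : m < q)
    (h : ∀ x : X, Module.Flat (X.presheaf.stalk x)
      (cokernel (((Groth.L00.Stk.S X x).obj G).d (q - 1) q) : ModuleCat.{u} (X.presheaf.stalk x))) :
    FlatMod.IsFinLocFree (cokernel (P.d (q - 1) q)) := by
  refine Fib.isFinLocFree_cokernel (hP.2 _) (hP.2 _) _ fun x => ?_
  let F := Groth.L00.Stk.F X x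
  let αx : DRing.toD ((Groth.L00.Stk.S X x).obj P) ⟶ DRing.toD ((Groth.L00.Stk.S X x).obj G) :=
    F.mapDerivedCategoryFactors.inv.app P ≫ F.mapDerivedCategory.map α ≫ F.mapDerivedCategoryFactors.hom.app G
  have hαx : Approx αx m :=
    (Approx.of_isIso _ _).comp ((hα.map_exact F).comp (Approx.of_isIso _ _))
  have hPf : ∀ i, FlatMod.IsFlat (P.X i) := fun i => isFlat_of_isFinLocFree (hP.2 i)
  haveI : CochainComplex.IsKProjective ((Groth.L00.Stk.S X x).obj P) :=
    Groth.L02.PC.isKProjective_of_vanishesAbove (b := bP) (fun i hi => F.map_isZero (hPb i hi))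
      (fun i => Module.Projective.of_equiv ((Fib.coord (RingHom.id (X.presheaf.stalk x)) (n i)).symm ≪≫ₗ
        ((Fib.Φ (RingHom.id (X.presheaf.stalk x))).mapIso (e i).symm).toLinearEquiv ≪≫ₗ
        ((ModuleCat.extendScalarsId (X.presheaf.stalk x)).app _).toLinearEquiv))
  obtain ⟨γ, hγ⟩ := Groth.L02.PC.exists_chainMap αx
  have ha : Groth.L02.PC.IsApprox (DerivedCategory.Q.map γ) m := by rw [hγ]; exact hαx
  have h1 := (flat_coker_congr γ (PerfDesc.flat_S hPf x) (PerfDesc.vanishesAbove_S hPb x)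
    (PerfDesc.flat_S hG x) (PerfDesc.vanishesAbove_S hGb x) ha q hq).2 (h x)
  exact Groth.L00.TorAmp.flat_of_iso (PreservesCokernel.iso F (P.d (q - 1) q)) h1

end Groth.L04.KSix
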