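import Groth.Agent.L04.KSix.OpenFlat
import Groth.Agent.L04.KSix.Homology

/-!
Exactness of `M ↦ H^p(M ⊗^L F)` gives a finite locally free cohomology sheaf and constant fibre dimensions.
-/

set_option autoImplicit false
set_option backward.isDefEq.respectTransparency false
set_option backward.isDefEq.respectTransparency.types false
set_option linter.style.haveILetI false

universe u

open CategoryTheory CategoryTheory.Limits AlgebraicGeometry MonoidalCategory HomologicalComplex
open Groth.L29.DC Groth.L29.DC.PCStalk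

attribute [local instance] HasDerivedCategory.standard

noncomputable section

namespace Groth.L04.KSix

open Groth.L00

variable {X : Scheme.{u}}

/-- the conclusion, from flatness of the two cokernels -/
theorem main_of_cokFlat (F : CochainComplex X.Modules ℤ) {G : CochainComplex X.Modules ℤ} {e : ℤ}
    (hG : ∀ i, FlatMod.IsFlat (G.X i)) (hGb : ∀ i, e < i → IsZero (G.X i))
    (eG : DCoh.toD X G ≅ DCoh.toD X F) (p : ℤ) (hE : DCoh.IsPseudoCoherentD (p - 1) (DCoh.toD X F))
    [∀ x : X, DCoh.HasLpull (X.fromSpecResidueField x)]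
    (h₀ : ∀ x, CokFlat G p x) (h₁ : ∀ x, CokFlat G (p + 1) x) :
    FlatMod.IsFinLocFree (DCoh.HD (DCoh.toD X F) p) ∧
      IsLocallyConstant (fun x : X => PerfD.betti (DCoh.toD X F) x p) := by
  have key : ∀ x : X, ∃ (U : Scheme.{u}) (j : U ⟶ X) (_ : IsOpenImmersion j), x ∈ j.opensRange ∧
      FlatMod.IsFinLocFree ((DCoh.HD (DCoh.toD X F) p).restrict j) ∧
      ∃ k : ℕ, ∀ v : U, PerfD.betti (DCoh.toD X F) (j v) p = k := by
    intro x
    obtain ⟨U, j, _, P, n, α, ⟨u, hu⟩, hP, hα, he⟩ := Fib.exists_model_of_pc (DCoh.toD X F) (p - 1) hE x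
    obtain ⟨⟨aP, bP, hv⟩, hf⟩ := hP
    let R := Scheme.Modules.restrictFunctor j
    let G' := (R.mapHomologicalComplex (ComplexShape.up ℤ)).obj G
    let α' : DCoh.toD U P ⟶ DCoh.toD U G' :=
      α ≫ R.mapDerivedCategory.map eG.inv ≫ R.mapDerivedCategoryFactors.hom.app G
    have hα' : Approx α' (p - 1) := hα.comp (Approx.of_isIso _ _)
    have hG' : ∀ i, FlatMod.IsFlat (G'.X i) := fun i =>
      Groth.L00.KFlat.isFlat_of_iso ((Scheme.Modules.restrictFunctorIsoPullback j).app _).symm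
        (Groth.L00.TorAmp.isFlat_pullback j (hG i))
    have hcok : ∀ q, p - 1 < q → (∀ y, CokFlat G q y) → FlatMod.IsFinLocFree (cokernel (P.d (q - 1) q)) :=
      fun q hq hc => flat_coker_of_approx_D (bP := bP) (bG := e) ⟨⟨aP, bP, hv⟩, hf⟩ (fun i hi => hv i (Or.inr hi))
        hG' (fun i hi => R.map_isZero (hGb i hi)) (fun i => (he i).some) α' hα' q hq
        (fun v => (cokFlat_res_iff j G q v).2 (hc _))
    have hC₀ : FlatMod.IsFinLocFree (cokernel (P.d (p - 1) p)) := hcok p (by omega) h₀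
    have hC₁ : FlatMod.IsFinLocFree (cokernel (P.d p (p + 1))) := by
      have h := hcok (p + 1) (by omega) h₁
      rwa [show p + 1 - 1 = p by omega] at h
    obtain ⟨W₁, a, hu₁, ⟨ia⟩⟩ := hC₀ u
    obtain ⟨W₂, b, hu₂, ⟨ib⟩⟩ := hC₁ u
    let W := W₁ ⊓ W₂
    obtain ⟨ia'⟩ := Groth.L29.LocFree.restrict_le (inf_le_left : W ≤ W₁) ia
    obtain ⟨ib'⟩ := Groth.L29.LocFree.restrict_le (inf_le_right : W ≤ W₂) ib
    let j' := W.ι ≫ j
    let RW := Scheme.Modules.restrictFunctor W.ι
    let P' := (RW.mapHomologicalComplex (ComplexShape.up ℤ)).obj P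
    let α'' : DerivedCategory.Q.obj P' ⟶ (DCoh.restrictD j').obj (DCoh.toD X F) :=
      RW.mapDerivedCategoryFactors.inv.app P ≫ (DCoh.restrictD W.ι).map α ≫
        ((resTransD j W.ι j' rfl).app (DCoh.toD X F)).hom
    have hα'' : Approx α'' (p - 1) :=
      (Approx.of_isIso _ _).comp ((Approx.map_exact RW hα).comp (Approx.of_isIso _ _))
    have eP' : ∀ i, P'.X i ≅ FlatMod.freeMod (W : Scheme.{u}) (n i) := fun i =>
      RW.mapIso (he i).some ≪≫ (Scheme.Modules.restrictFunctorIsoPullback W.ι).app _ ≪≫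
        Groth.L29.LocFree.pullbackFreeIso W.ι (n i)
    have hP' : DCoh.IsStrictlyPerfect P' := isStrictlyPerfect_restrict W.ι ⟨⟨aP, bP, hv⟩, hf⟩
    let c₀ : cokernel (P'.d (p - 1) p) ≅ FlatMod.freeMod (W : Scheme.{u}) a :=
      (PreservesCokernel.iso RW (P.d (p - 1) p)).symm ≪≫ ia'
    let c₁ : cokernel (P'.d p (p + 1)) ≅ FlatMod.freeMod (W : Scheme.{u}) b :=
      (PreservesCokernel.iso RW (P.d p (p + 1))).symm ≪≫ ib'
    refine ⟨_, j', inferInstance, ⟨⟨u, hu₁, hu₂⟩, hu⟩, ?_, a + b - n (p + 1), fun v => ?_⟩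
    · have hH := isFinLocFree_homology (P := P') p (hP'.2 _)
        (Groth.L29.LocFree.of_iso c₀.symm (Groth.L29.DC.isFinLocFree_freeMod _ _))
        (Groth.L29.LocFree.of_iso c₁.symm (Groth.L29.DC.isFinLocFree_freeMod _ _))
      haveI := hα''.1 p (by omega)
      exact Groth.L29.LocFree.of_iso (((DerivedCategory.homologyFunctorFactors _ p).app P').symm ≪≫
        asIso ((DerivedCategory.homologyFunctor _ p).map α'') ≪≫ HDResIso j' _ p) hH
    · have h := Fib.betti_add_rkp j' (DCoh.toD X F) hP' n eP' hα'' v (show p - 1 < p by omega)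
      letI := Fib.stalkField (Fib.pt (j' v)) (Fib.isField_stalk_pt _)
      have h2 := rk_add_coker (Groth.L00.PullStalk.φ (Fib.lpt j' v) (Fib.pt (j' v))) (P'.d (p - 1) p) (eP' p) c₀
      have h3 := rk_add_coker (Groth.L00.PullStalk.φ (Fib.lpt j' v) (Fib.pt (j' v))) (P'.d p (p + 1)) (eP' (p + 1)) c₁
      simp only [Fib.rkp] at h
      omega
  refine ⟨isFinLocFree_of_local fun x => ?_, (IsLocallyConstant.iff_exists_open _).2 fun x => ?_⟩
  · obtain ⟨U, j, _, hx, hH, -⟩ := key x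
    refine ⟨j.opensRange, hx, Groth.L29.LocFree.of_iso ?_ (Groth.L29.LocFree.pullback j.isoOpensRange.inv hH)⟩
    exact ((Scheme.Modules.restrictFunctorIsoPullback j.isoOpensRange.inv).app _).symm ≪≫
      (resTrans j j.isoOpensRange.inv _ j.isoOpensRange_inv_comp).app _
  · obtain ⟨U, j, _, hx, -, k, hk⟩ := key x
    refine ⟨Set.range j, j.isOpenEmbedding.isOpen_range, hx, ?_⟩
    obtain ⟨u, rfl⟩ := hx
    rintro _ ⟨v, rfl⟩
    exact (hk v).trans (hk u).symm

theorem main (F : CochainComplex X.Modules ℤ) (e : ℤ) [(DCoh.toD X F).IsLE e] (p : ℤ)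
    (hE : DCoh.IsPseudoCoherentD (p - 1) (DCoh.toD X F)) [DCoh.HasLTensorCx F]
    [PreservesFiniteLimits (DerivedCategory.singleFunctor X.Modules 0 ⋙ DCoh.LTensorCx F ⋙ DerivedCategory.homologyFunctor X.Modules p)]
    [PreservesFiniteColimits (DerivedCategory.singleFunctor X.Modules 0 ⋙ DCoh.LTensorCx F ⋙ DerivedCategory.homologyFunctor X.Modules p)]
    [∀ x : X, DCoh.HasLpull (X.fromSpecResidueField x)] :
    FlatMod.IsFinLocFree (DCoh.HD (DCoh.toD X F) p) ∧
      IsLocallyConstant (fun x : X => PerfD.betti (DCoh.toD X F) x p) := by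
  obtain ⟨G, hGb, hG, ⟨eG⟩, hrep⟩ := exists_rep F e
  obtain ⟨t⟩ := hrep p
  refine main_of_cokFlat F hG hGb eG p hE
    ((monoH_TS_iff_cokFlat hG p).1 ((preservesFiniteLimits_iff (shortExact_TS hG) p).1
      (preservesFiniteLimits_of_natIso t)))
    ((monoH_TS_iff_cokFlat hG (p + 1)).1 ((preservesFiniteColimits_iff (shortExact_TS hG) p).1
      (preservesFiniteColimits_of_natIso t)))

end Groth.L04.KSix
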