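import Groth.Agent.L29.DCoh.FreeIso
import Groth.Agent.L29.DCoh.Triangle
import Groth.Agent.Lead.StalkPush
import Groth.Prelude.Def_DerSch

/-!
Stalks of direct images along open immersions over the ambient local ring; matrices and composition.
-/

set_option autoImplicit false
set_option backward.isDefEq.respectTransparency false
set_option backward.isDefEq.respectTransparency.types false
set_option linter.style.haveILetI false

universe u

open CategoryTheory CategoryTheory.Limits AlgebraicGeometry Opposite TensorProduct Groth.L29.DC.Fib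

attribute [local instance] preservesBinaryBiproducts_of_preservesBinaryCoproducts

noncomputable section

namespace Groth.L04.KSix

variable {X W : Scheme.{u}} (j : W ⟶ X) [IsOpenImmersion j] (w : W)

/-- the comparison of local rings along an open immersion -/
def localEquiv : X.presheaf.stalk (j w) ≃+* W.presheaf.stalk w :=
  (asIso (j.stalkMap w)).commRingCatIsoToRingEquiv

/-- its inverse, as a ring map -/
abbrev ρ : W.presheaf.stalk w →+* X.presheaf.stalk (j w) := (localEquiv j w).symm.toRingHom

theorem ρ_stalkMap (r : X.presheaf.stalk (j w)) : ρ j w ((j.stalkMap w).hom r) = r :=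
  (localEquiv j w).symm_apply_apply r

theorem bijective_tmul_one {S T : Type u} [CommRing S] [CommRing T] (e : S ≃+* T) (N : Type u) [AddCommGroup N]
    [Module S N] :
    letI := e.toRingHom.toAlgebra
    Function.Bijective fun n : N => (1 : T) ⊗ₜ[S] n := by
  letI := e.toRingHom.toAlgebra
  let el : S ≃ₗ[S] T :=
    { e with
      map_smul' := fun a b => by
        show e (a * b) = algebraMap S T a * e b
        rw [map_mul]; rfl }
  have h : (fun n : N => (1 : T) ⊗ₜ[S] n) =
      ((TensorProduct.lid S N).symm ≪≫ₗ TensorProduct.congr el (LinearEquiv.refl S N)) := by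
    funext n
    show _ = el 1 ⊗ₜ[S] n
    rw [show el 1 = 1 from map_one e]
  rw [h]
  exact LinearEquiv.bijective _

/-- stalks of direct images along an open immersion, as modules over the local ring of the ambient scheme -/
def pushStalkEquiv (M : W.Modules) :
    (DerSch.stalkFunctor X (j w)).obj ((Scheme.Modules.pushforward j).obj M) ≃ₗ[X.presheaf.stalk (j w)]
      (Φ (ρ j w)).obj M :=
  letI := (ρ j w).toAlgebra
  LinearEquiv.ofBijective
    ({ toFun := fun m => (1 : X.presheaf.stalk (j w)) ⊗ₜ[W.presheaf.stalk w]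
          (show M.presheaf.stalk w from Groth.Lead.StalkPush.σ j w M m)
       map_add' := fun a b => by rw [map_add, TensorProduct.tmul_add]
       map_smul' := fun r m => by
        show (1 : X.presheaf.stalk (j w)) ⊗ₜ[W.presheaf.stalk w]
          (show M.presheaf.stalk w from Groth.Lead.StalkPush.σ j w M
            (r • (show ((Scheme.Modules.pushforward j).obj M).presheaf.stalk (j w) from m))) = r • _
        rw [Groth.Lead.StalkPush.σ_smul, TensorProduct.tmul_smul, TensorProduct.smul_tmul', TensorProduct.smul_tmul']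
        congr 1
        show ρ j w _ * 1 = r * 1
        rw [ρ_stalkMap] } :
      (DerSch.stalkFunctor X (j w)).obj ((Scheme.Modules.pushforward j).obj M) →ₗ[X.presheaf.stalk (j w)]
        (Φ (ρ j w)).obj M)
    (by
      haveI := TopCat.Presheaf.stalkPushforward.stalkPushforward_iso_of_isInducing AddCommGrpCat.{u}
        j.isOpenEmbedding.isInducing M.presheaf w
      have h1 : Function.Bijective (Groth.Lead.StalkPush.σ j w M) :=
        ConcreteCategory.bijective_of_isIso (TopCat.Presheaf.stalkPushforward AddCommGrpCat.{u} j.base M.presheaf w)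
      exact (bijective_tmul_one (localEquiv j w).symm ((DerSch.stalkFunctor W w).obj M)).comp h1)

theorem pushStalkEquiv_naturality {M N : W.Modules} (φ : M ⟶ N)
    (m : (DerSch.stalkFunctor X (j w)).obj ((Scheme.Modules.pushforward j).obj M)) :
    pushStalkEquiv j w N ((DerSch.stalkFunctor X (j w)).map ((Scheme.Modules.pushforward j).map φ) m) =
      ((Φ (ρ j w)).map φ).hom (pushStalkEquiv j w M m) := by
  letI := (ρ j w).toAlgebra
  show (1 : X.presheaf.stalk (j w)) ⊗ₜ[W.presheaf.stalk w] _ = (1 : X.presheaf.stalk (j w)) ⊗ₜ[W.presheaf.stalk w] _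
  congr 1
  obtain ⟨U, hU, s, rfl⟩ := TopCat.Presheaf.exists_germ_eq (F := ((Scheme.Modules.pushforward j).obj M).presheaf) m
  show Groth.Lead.StalkPush.σ j w N _ = (DerSch.stalkFunctor W w).map φ (Groth.Lead.StalkPush.σ j w M _)
  rw [DerSch.stalkFunctor_map_germ, Groth.Lead.StalkPush.σ_germ, Groth.Lead.StalkPush.σ_germ,
    DerSch.stalkFunctor_map_germ]
  rfl

/-- global evaluation at a point of an open immersion -/
theorem ev_appLE {V : X.Opens} (hV : j w ∈ V) (h : ⊤ ≤ j ⁻¹ᵁ V) (s : Γ(X, V)) :
    ev (ρ j w) (j.appLE V ⊤ h s) = X.presheaf.germ V (j w) hV s := by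
  conv_rhs => rw [← ρ_stalkMap j w (X.presheaf.germ V (j w) hV s)]
  show ρ j w _ = ρ j w _
  congr 1
  rw [Scheme.Hom.germ_stalkMap_apply]
  exact TopCat.Presheaf.germ_res_apply W.presheaf (homOfLE h) w trivial (j.app V s)

variable {W : Scheme.{u}}

theorem scal_comp (a b : Γ(W, ⊤)) : scal a ≫ scal b = scal (a * b) := by
  refine Groth.L29.DC.unit_hom_ext _ _ ?_
  rw [Scheme.Modules.Hom.comp_app, ConcreteCategory.comp_apply, scal_app, scal_app]
  conv_lhs => rw [show (a : Γ(W, ⊤)) = a • (1 : Γ(W, ⊤)) from (mul_one a).symm]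
  rw [Scheme.Modules.Hom.app_smul, scal_app, smul_eq_mul]

theorem scal_add (a b : Γ(W, ⊤)) : scal (a + b) = scal a + scal b := by
  refine Groth.L29.DC.unit_hom_ext _ _ ?_
  rw [val_add, scal_app, scal_app, scal_app]

theorem scal_sum {ι : Type*} (s : Finset ι) (a : ι → Γ(W, ⊤)) :
    scal (∑ i ∈ s, a i) = ∑ i ∈ s, scal (a i) :=
  map_sum ({ toFun := scal
             map_zero' := by
               have h := scal_add (0 : Γ(W, ⊤)) 0
               rw [add_zero] at h
               exact add_eq_left.1 h.symm
             map_add' := scal_add } : Γ(W, ⊤) →+ (Coh.structureModule W ⟶ Coh.structureModule W)) a s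

theorem incl_ofMat {n m : ℕ} (A : Matrix (Fin m) (Fin n) Γ(W, ⊤)) (k : Fin n) :
    incl n k ≫ ofMat A = ∑ i, scal (A i k) ≫ incl m i := Sigma.ι_desc _ _

theorem ofMat_comp {n m l : ℕ} (A : Matrix (Fin m) (Fin n) Γ(W, ⊤)) (B : Matrix (Fin l) (Fin m) Γ(W, ⊤)) :
    ofMat A ≫ ofMat B = ofMat (B * A) := by
  refine Sigma.hom_ext _ _ fun k => ?_
  change incl n k ≫ ofMat A ≫ ofMat B = incl n k ≫ ofMat (B * A)
  rw [← Category.assoc, incl_ofMat, incl_ofMat, Preadditive.sum_comp]
  calc ∑ i, (scal (A i k) ≫ incl m i) ≫ ofMat B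
      = ∑ i, ∑ t, scal (A i k * B t i) ≫ incl l t := Finset.sum_congr rfl fun i _ => by
        rw [Category.assoc, incl_ofMat, Preadditive.comp_sum]
        exact Finset.sum_congr rfl fun t _ => by rw [← Category.assoc, scal_comp]
    _ = ∑ t, scal ((B * A) t k) ≫ incl l t := by
        rw [Finset.sum_comm]
        refine Finset.sum_congr rfl fun t _ => ?_
        rw [Matrix.mul_apply, scal_sum, Preadditive.sum_comp]
        exact Finset.sum_congr rfl fun i _ => by rw [mul_comm]

theorem ofMat_zero (n m : ℕ) : ofMat (0 : Matrix (Fin m) (Fin n) Γ(W, ⊤)) = 0 := by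
  refine Sigma.hom_ext _ _ fun k => ?_
  change incl n k ≫ ofMat 0 = incl n k ≫ 0
  rw [incl_ofMat, comp_zero]
  refine Finset.sum_eq_zero fun i _ => ?_
  have h := scal_add (0 : Γ(W, ⊤)) 0
  rw [add_zero] at h
  rw [Matrix.zero_apply, add_eq_left.1 h.symm, zero_comp]

end Groth.L04.KSix
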