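import Mathlib.Algebra.Homology.HomologySequence
import Mathlib.Algebra.Homology.HomologicalComplexAbelian
import Mathlib.Algebra.Homology.ShortComplex.ExactFunctor

/-!
Half exact functors given by homology of an exact functor to complexes.
-/

set_option autoImplicit false
set_option backward.isDefEq.respectTransparency false
set_option backward.isDefEq.respectTransparency.types false

universe v u v' u'

open CategoryTheory CategoryTheory.Limits HomologicalComplex

noncomputable section

namespace Groth.L04.KSix

variable {C : Type u} [Category.{v} C] [Abelian C] {D : Type u'} [Category.{v'} D] [Abelian D]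
  (T : C ⥤ CochainComplex D ℤ) [T.Additive]

/-- a cohomology functor -/
abbrev Hn (n : ℤ) : C ⥤ D := T ⋙ homologyFunctor D (ComplexShape.up ℤ) n

/-- degree `n` cohomology keeps monomorphisms -/
def MonoH (n : ℤ) : Prop := ∀ ⦃A B : C⦄ (f : A ⟶ B), Mono f → Mono ((Hn T n).map f)

/-- degree `n` opcycles keep monomorphisms -/
def MonoO (n : ℤ) : Prop := ∀ ⦃A B : C⦄ (f : A ⟶ B), Mono f → Mono (opcyclesMap (T.map f) n)

variable {T} (hT : ∀ S : ShortComplex C, S.ShortExact → (S.map T).ShortExact)

include hT

theorem middle_exact {S : ShortComplex C} (hS : S.ShortExact) (n : ℤ) : (S.map (Hn T n)).Exact :=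
  (hT S hS).homology_exact₂ n

theorem epi_iff_mono {S : ShortComplex C} (hS : S.ShortExact) (n : ℤ) :
    Epi ((Hn T n).map S.g) ↔ Mono ((Hn T (n + 1)).map S.f) := by
  have h := hT S hS
  refine Iff.trans (h.homology_exact₃ n (n + 1) rfl).epi_f_iff ?_
  exact (h.homology_exact₁ n (n + 1) rfl).mono_g_iff.symm

theorem preservesFiniteColimits_iff (n : ℤ) : PreservesFiniteColimits (Hn T n) ↔ MonoH T (n + 1) := by
  refine ⟨fun _ A B f hf => ?_, fun h => ?_⟩
  swap
  · refine ((Hn T n).preservesFiniteColimits_tfae.out 0 3).1 ?_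
    intro S hS
    exact ⟨middle_exact hT hS n, (epi_iff_mono hT hS n).2 (h S.f hS.mono_f)⟩
  let S := ShortComplex.mk f (cokernel.π f) (cokernel.condition f)
  have hS : S.ShortExact :=
    { exact := ShortComplex.exact_of_g_is_cokernel _ (cokernelIsCokernel f)
      mono_f := hf
      epi_g := inferInstanceAs (Epi (cokernel.π f)) }
  haveI : Epi S.g := hS.epi_g
  exact (epi_iff_mono hT hS n).1 inferInstance

theorem preservesFiniteLimits_iff (n : ℤ) : PreservesFiniteLimits (Hn T n) ↔ MonoH T n := by
  refine ⟨fun _ A B f hf => inferInstance, fun h => ?_⟩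
  refine ((Hn T n).preservesFiniteLimits_tfae.out 0 3).1 ?_
  intro S hS
  exact ⟨middle_exact hT hS n, h S.f hS.mono_f⟩

theorem mono_f_map {A B : C} (f : A ⟶ B) (hf : Mono f) (n : ℤ) : Mono ((T.map f).f n) := by
  let S := ShortComplex.mk f (cokernel.π f) (cokernel.condition f)
  have hS : S.ShortExact :=
    { exact := ShortComplex.exact_of_g_is_cokernel _ (cokernelIsCokernel f)
      mono_f := hf
      epi_g := inferInstanceAs (Epi (cokernel.π f)) }
  exact ((hT S hS).map_of_exact (HomologicalComplex.eval D (ComplexShape.up ℤ) n)).mono_f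

theorem monoH_iff_monoO (n : ℤ) : MonoH T n ↔ MonoO T n := by
  refine ⟨fun h A B f hf => Preadditive.mono_of_cancel_zero _ fun {W} k hk => ?_, fun h A B f hf => ?_⟩
  · haveI : Mono (homologyMap (T.map f) n) := h f hf
    haveI := mono_f_map hT f hf (n + 1)
    have h0 : k ≫ (T.obj A).fromOpcycles n (n + 1) = 0 := by
      rw [← cancel_mono ((T.map f).f (n + 1)), zero_comp, Category.assoc, ← opcyclesMap_fromOpcycles_assoc_aux,
        reassoc_of% hk, zero_comp]
    obtain ⟨l, hl⟩ := KernelFork.IsLimit.lift' ((T.obj A).homologyIsKernel n (n + 1) (by simp)) k h0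
    change l ≫ (T.obj A).homologyι n = k at hl
    have hl0 : l = 0 := by
      rw [← cancel_mono (homologyMap (T.map f) n), ← cancel_mono ((T.obj B).homologyι n), zero_comp, zero_comp,
        Category.assoc, homologyι_naturality, reassoc_of% hl, hk]
    rw [← hl, hl0, zero_comp]
  · haveI := h f hf
    haveI : Mono (homologyMap (T.map f) n ≫ (T.obj B).homologyι n) := by
      rw [homologyι_naturality]; infer_instance
    exact mono_of_mono (homologyMap (T.map f) n) ((T.obj B).homologyι n)
where
  opcyclesMap_fromOpcycles_assoc_aux {A B : C} {f : A ⟶ B} {n : ℤ} :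
      opcyclesMap (T.map f) n ≫ (T.obj B).fromOpcycles n (n + 1) =
        (T.obj A).fromOpcycles n (n + 1) ≫ (T.map f).f (n + 1) := by
    rw [← cancel_epi ((T.obj A).pOpcycles n), p_opcyclesMap_assoc, p_fromOpcycles, p_fromOpcycles_assoc]
    exact (T.map f).comm n (n + 1)

end Groth.L04.KSix
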