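import Groth.Agent.L04.KSix.FlatCoker
import Groth.Agent.L10.DRing.AmpTest
import Groth.Agent.L10.DRing.CompletionAdic

/-!
`N ↦ H^p(N ⊗^L E)` for modules over a ring, through a flat representative of `E`.
-/

set_option autoImplicit false
set_option backward.isDefEq.respectTransparency false
set_option backward.isDefEq.respectTransparency.types false

universe u

open CategoryTheory CategoryTheory.Limits MonoidalCategory

attribute [local instance] HasDerivedCategory.standard

noncomputable section

namespace Groth.L04.KSix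

variable {A : Type u} [CommRing A]

/-- `N ↦` a K-flat resolution of `N` -/
abbrev res0 : ModuleCat.{u} A ⥤ DRing.Cx A :=
  CochainComplex.singleFunctor (ModuleCat.{u} A) 0 ⋙ Groth.L10.KFlat.R A

/-- resolving does not change the class -/
def res0Iso : res0 (A := A) ⋙ DerivedCategory.Q ≅ DerivedCategory.singleFunctor (ModuleCat.{u} A) 0 :=
  haveI : ∀ N : ModuleCat.{u} A,
      IsIso (DerivedCategory.Q.map ((Groth.L10.KFlat.r A).app ((CochainComplex.singleFunctor (ModuleCat.{u} A) 0).obj N))) :=
    fun N => (DerivedCategory.isIso_Q_map_iff_quasiIso _ _).2 inferInstance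
  NatIso.ofComponents (fun N => asIso (DerivedCategory.Q.map ((Groth.L10.KFlat.r A).app
      ((CochainComplex.singleFunctor (ModuleCat.{u} A) 0).obj N))))
    (fun {N N'} f => (DerivedCategory.Q.map_comp _ _).symm.trans
      ((congrArg DerivedCategory.Q.map ((Groth.L10.KFlat.r A).naturality _)).trans (DerivedCategory.Q.map_comp _ _)))

/-- `- ⊗^L E` on a resolved module -/
def counitIso (E : DRing.Cx A) [DRing.HasLTensorCx A E] :
    res0 ⋙ DerivedCategory.Q ⋙ DRing.LTensorCx A E ≅ res0 ⋙ tensorRight E ⋙ DerivedCategory.Q :=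
  let c := (DRing.tensorCxQ A E).totalLeftDerivedCounit DerivedCategory.Q
    (HomologicalComplex.quasiIso (ModuleCat.{u} A) (ComplexShape.up ℤ))
  haveI : (DRing.LTensorCx A E).IsRightKanExtension c :=
    Functor.IsLeftDerivedFunctor.isRightKanExtension _ _
      (HomologicalComplex.quasiIso (ModuleCat.{u} A) (ComplexShape.up ℤ))
  haveI : ∀ N : ModuleCat.{u} A, IsIso (c.app (res0.obj N)) := fun N =>
    Groth.L10.DTen.isIso_counit (DRing.tensorCxQ A E)
      (HomologicalComplex.quasiIso (ModuleCat.{u} A) (ComplexShape.up ℤ)) DerivedCategory.Q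
      (Groth.L10.KFlat.R A) (Groth.L10.KFlat.r A)
      (fun _ => (HomologicalComplex.mem_quasiIso_iff _).2 inferInstance)
      (Groth.L10.AmpTest.tensorCxQ_inverted E)
      (fun _ => Groth.L10.AmpTest.tensorCxQ_inverted.isIso_Q_tensor_map E _ (Groth.L10.KFlat.isKFlat_R _) (Groth.L10.KFlat.isKFlat_R _))
      (DRing.LTensorCx A E) c (res0.obj N)
      (Groth.L10.AmpTest.tensorCxQ_inverted.isIso_Q_tensor_map E _ (Groth.L10.KFlat.isKFlat_R _) (Groth.L10.KFlat.isKFlat_R _))
  NatIso.ofComponents (fun N => asIso (c.app (res0.obj N))) (fun {N N'} f => c.naturality _)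

/-- changing the fixed factor along a quasi-isomorphism -/
def factorIso {E E' : DRing.Cx A} (g : E' ⟶ E) [QuasiIso g] :
    res0 ⋙ tensorRight E' ⋙ DerivedCategory.Q ≅ res0 ⋙ tensorRight E ⋙ DerivedCategory.Q :=
  haveI : ∀ N : ModuleCat.{u} A, IsIso (DerivedCategory.Q.map (res0.obj N ◁ g)) := fun N =>
    Groth.L10.DTen.isIso_Q_tensor_right (Groth.L10.KFlat.isKFlat_R _) g
  NatIso.ofComponents (fun N => asIso (DerivedCategory.Q.map (res0.obj N ◁ g)))
    (fun {N N'} f => (DerivedCategory.Q.map_comp _ _).symm.trans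
      ((congrArg DerivedCategory.Q.map (whisker_exchange (res0.map f) g).symm).trans (DerivedCategory.Q.map_comp _ _)))

/-- tensoring a resolved module with a K-flat complex -/
def tensorResIso {G : DRing.Cx A} (hG : DRing.IsKFlat A G) :
    res0 ⋙ tensorRight G ⋙ DerivedCategory.Q ≅ FT G ⋙ DerivedCategory.Q :=
  let s := CochainComplex.singleFunctor (ModuleCat.{u} A) 0
  haveI : ∀ N, IsIso (DerivedCategory.Q.map ((Groth.L10.KFlat.r A).app (s.obj N) ▷ G)) := fun N =>
    Groth.L10.DTen.isIso_Q_tensor_left _ hG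
  NatIso.ofComponents (fun N => asIso (DerivedCategory.Q.map ((Groth.L10.KFlat.r A).app (s.obj N) ▷ G)) ≪≫
      DerivedCategory.Q.mapIso (Groth.L10.KFlatLBC.singleTensorIso G N).symm)
    (fun {N N'} f => by
      show DerivedCategory.Q.map (res0.map f ▷ G) ≫ DerivedCategory.Q.map _ ≫ DerivedCategory.Q.map _ =
        (DerivedCategory.Q.map _ ≫ DerivedCategory.Q.map _) ≫ DerivedCategory.Q.map ((FT G).map f)
      simp only [← Functor.map_comp, Category.assoc]
      congr 1
      rw [← MonoidalCategory.comp_whiskerRight_assoc, show res0.map f ≫ (Groth.L10.KFlat.r A).app (s.obj N') =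
        (Groth.L10.KFlat.r A).app (s.obj N) ≫ s.map f from (Groth.L10.KFlat.r A).naturality (s.map f),
        MonoidalCategory.comp_whiskerRight_assoc]
      congr 1
      rw [Iso.symm_hom, Iso.symm_hom, Iso.comp_inv_eq, Category.assoc, Iso.eq_inv_comp]
      exact (Groth.L10.CompletionAdic.singleTensorIso_naturality f G).symm)

/-- `N ↦ H^p(N ⊗^L E)` through a flat bounded above representative -/
theorem exists_iso_Hn_FT (E : DRing.Cx A) [DRing.HasLTensorCx A E] {G : DRing.Cx A}
    (hG : DRing.IsKFlat A G) (e : DRing.toD G ≅ DRing.toD E) (p : ℤ) :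
    Nonempty (DerivedCategory.singleFunctor (ModuleCat.{u} A) 0 ⋙ DRing.LTensorCx A E ⋙
      DerivedCategory.homologyFunctor (ModuleCat.{u} A) p ≅ Hn (FT G) p) := by
  obtain ⟨W, s, hs, g, hfac⟩ := DerivedCategory.right_fac e.hom
  haveI : QuasiIso s := (DerivedCategory.isIso_Q_map_iff_quasiIso _ s).1 hs
  haveI : QuasiIso g := (DerivedCategory.isIso_Q_map_iff_quasiIso _ g).1 (by
    rw [show DerivedCategory.Q.map g = DerivedCategory.Q.map s ≫ e.hom by rw [hfac, IsIso.hom_inv_id_assoc]]
    infer_instance)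
  let a : DerivedCategory.singleFunctor (ModuleCat.{u} A) 0 ⋙ DRing.LTensorCx A E ≅ FT G ⋙ DerivedCategory.Q :=
    (Functor.isoWhiskerRight res0Iso _).symm ≪≫ Functor.associator _ _ _ ≪≫ counitIso E ≪≫
      (factorIso g).symm ≪≫ factorIso s ≪≫ tensorResIso hG
  exact ⟨(Functor.associator _ _ _).symm ≪≫ Functor.isoWhiskerRight a _ ≪≫ Functor.associator _ _ _ ≪≫
    Functor.isoWhiskerLeft (FT G) (DerivedCategory.homologyFunctorFactors (ModuleCat.{u} A) p)⟩

end Groth.L04.KSix
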