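import Groth.Agent.L04.KSix.FlatCoker
import Groth.Agent.L00.TorFlat
import Groth.Agent.L00.SingleTotal
import Groth.Agent.L29.DCoh.RHomBound

/-!
The functor `M ↦ H^n(M ⊗^L F)` on modules, through a flat representative, and its stalks.
-/

set_option autoImplicit false
set_option backward.isDefEq.respectTransparency false
set_option backward.isDefEq.respectTransparency.types false

universe u

open CategoryTheory CategoryTheory.Limits AlgebraicGeometry MonoidalCategory HomologicalComplex

attribute [local instance] HasDerivedCategory.standard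

noncomputable section

namespace Groth.L04.KSix

open Groth.L00 Groth.L29.DC

variable {X : Scheme.{u}}

/-- `M ↦ M ⊗ G`, termwise -/
def TS (G : CochainComplex X.Modules ℤ) : X.Modules ⥤ CochainComplex X.Modules ℤ where
  obj M := (((DCoh.tensorBi (X := X)).obj M).mapHomologicalComplex (ComplexShape.up ℤ)).obj G
  map f := (NatTrans.mapHomologicalComplex ((DCoh.tensorBi (X := X)).map f) (ComplexShape.up ℤ)).app G
  map_id M := by ext i : 1; simp
  map_comp f g := by ext i : 1; simp

theorem TS_map_f (G : CochainComplex X.Modules ℤ) {M M' : X.Modules} (f : M ⟶ M') (i : ℤ) :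
    ((TS G).map f).f i = ((DCoh.tensorBi (X := X)).map f).app (G.X i) := rfl

instance (G : CochainComplex X.Modules ℤ) : (TS G).Additive where
  map_add {M M' f g} := by
    ext i : 1
    rw [HomologicalComplex.add_f_apply, TS_map_f, TS_map_f, TS_map_f, Functor.map_add, NatTrans.app_add]

/-- stalks of the termwise tensor product -/
def stalkTS (G : CochainComplex X.Modules ℤ) (x : X) :
    Stk.F X x ⋙ FT ((Stk.S X x).obj G) ≅ TS G ⋙ Stk.S X x :=
  NatIso.ofComponents
    (fun M => HomologicalComplex.Hom.isoOfComponents (fun i => Stk.β x (G.X i) M)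
      (fun i k _ => (Stk.β_natural₁ x (G.d i k) M).symm))
    (fun {M M'} g => by
      ext i : 1
      exact Stk.β_natural₂ x (G.X i) g)

/-- stalks of the cohomology functors -/
def stalkHn (G : CochainComplex X.Modules ℤ) (x : X) (n : ℤ) :
    Stk.F X x ⋙ Hn (FT ((Stk.S X x).obj G)) n ≅ Hn (TS G) n ⋙ Stk.F X x :=
  Functor.isoWhiskerRight (stalkTS G x) (homologyFunctor _ _ n) ≪≫
    Functor.isoWhiskerLeft (TS G) (Functor.isoWhiskerLeft (shortComplexFunctor X.Modules (ComplexShape.up ℤ) n)
      (ShortComplex.homologyFunctorIso (Stk.F X x)))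

theorem mono_iff_F {M N : X.Modules} (f : M ⟶ N) : Mono f ↔ ∀ x, Mono ((Stk.F X x).map f) := by
  rw [Groth.L21.Mod.mono_iff_stalk_injective]
  refine forall_congr' fun x => ?_
  rw [ModuleCat.mono_iff_injective]
  rfl

theorem monoH_TS_iff (G : CochainComplex X.Modules ℤ) (n : ℤ) :
    MonoH (TS G) n ↔ ∀ x, MonoH (FT ((Stk.S X x).obj G)) n := by
  constructor
  · intro h x A B f hf
    haveI : (Sky.skyF x).IsRightAdjoint := (Sky.adj x).isRightAdjoint
    haveI := h ((Sky.skyF x).map f) inferInstance
    haveI : Mono ((Hn (TS G) n ⋙ Stk.F X x).map ((Sky.skyF x).map f)) := by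
      rw [Functor.comp_map]; infer_instance
    have h1 : Mono ((Stk.F X x ⋙ Hn (FT ((Stk.S X x).obj G)) n).map ((Sky.skyF x).map f)) :=
      ((MorphismProperty.monomorphisms _).arrow_mk_iso_iff
        (Arrow.isoMk ((stalkHn G x n).app _) ((stalkHn G x n).app _)
          ((stalkHn G x n).hom.naturality _).symm)).2 inferInstance
    exact ((MorphismProperty.monomorphisms _).arrow_mk_iso_iff
      (Arrow.isoMk ((Hn (FT ((Stk.S X x).obj G)) n).mapIso ((Sky.counitIso x).app A))
        ((Hn (FT ((Stk.S X x).obj G)) n).mapIso ((Sky.counitIso x).app B)) (by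
          have e := congrArg (Hn (FT ((Stk.S X x).obj G)) n).map ((Sky.counitIso x).hom.naturality f).symm
          rw [Functor.map_comp, Functor.map_comp] at e
          exact e))).1 h1
  · intro h A B f hf
    refine (mono_iff_F _).2 fun x => ?_
    exact ((MorphismProperty.monomorphisms _).arrow_mk_iso_iff
      (Arrow.isoMk ((stalkHn G x n).app A) ((stalkHn G x n).app B) ((stalkHn G x n).hom.naturality f).symm)).1
      (h x ((Stk.F X x).map f) inferInstance)

theorem shortExact_TS {G : CochainComplex X.Modules ℤ} (hG : ∀ i, FlatMod.IsFlat (G.X i))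
    (S : ShortComplex X.Modules) (hS : S.ShortExact) : (S.map (TS G)).ShortExact := by
  refine shortExact_of_degreewise_shortExact _ fun i => ?_
  rw [Groth.L21.Mod.shortExact_iff_stalk]
  intro x
  have h1 : ((S.map (Stk.F X x)).map (FT ((Stk.S X x).obj G))).ShortExact :=
    shortExact_FT (G := (Stk.S X x).obj G) (fun j => hG j x) _ (hS.map_of_exact (Stk.F X x))
  have h2 : ((S.map (TS G)).map (Stk.S X x)).ShortExact :=
    ShortComplex.shortExact_of_iso (S.mapNatIso (stalkTS G x)) h1
  have h3 := (h2.map_of_exact (HomologicalComplex.eval _ (ComplexShape.up ℤ) i)).map_of_exact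
    (forget₂ (ModuleCat.{u} (X.presheaf.stalk x)) AddCommGrpCat.{u})
  exact ShortComplex.shortExact_of_iso (((S.map (TS G)).map (HomologicalComplex.eval _ (ComplexShape.up ℤ) i)).mapNatIso
    (Stk.forgetIso x)) h3

section SingleNat

variable {C₁ C₂ D : Type*} [Category C₁] [Category C₂] [Category D]
  [Preadditive C₁] [HasZeroObject C₁] [Preadditive C₂] [Preadditive D]
  (F : C₁ ⥤ C₂ ⥤ D) [F.Additive] [∀ X, (F.obj X).Additive]
  [∀ (K₁ : CochainComplex C₁ ℤ) (K₂ : CochainComplex C₂ ℤ), CochainComplex.HasMapBifunctor K₁ K₂ F]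

/-- the comparison for a complex in degree zero is natural -/
theorem singleTotal_natural {M M' : C₁} (f : M ⟶ M') (K : CochainComplex C₂ ℤ) :
    (NatTrans.mapHomologicalComplex (F.map f) (ComplexShape.up ℤ)).app K ≫ (SingleTotal.iso F M' K).hom =
      (SingleTotal.iso F M K).hom ≫
        mapBifunctorMap ((CochainComplex.singleFunctor C₁ 0).map f) (𝟙 K) F (ComplexShape.up ℤ) := by
  ext i : 1
  show (F.map f).app (K.X i) ≫ (F.map (singleObjXSelf (ComplexShape.up ℤ) 0 M').inv).app (K.X i) ≫
        ιMapBifunctor _ K F (ComplexShape.up ℤ) 0 i i (zero_add i) =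
      ((F.map (singleObjXSelf (ComplexShape.up ℤ) 0 M).inv).app (K.X i) ≫
        ιMapBifunctor _ K F (ComplexShape.up ℤ) 0 i i (zero_add i)) ≫
        (mapBifunctorMap ((CochainComplex.singleFunctor C₁ 0).map f) (𝟙 K) F (ComplexShape.up ℤ)).f i
  erw [Category.assoc, ι_mapBifunctorMap]
  simp only [HomologicalComplex.id_f, CategoryTheory.Functor.map_id, Category.id_comp]
  rw [← Category.assoc, ← Category.assoc, ← NatTrans.comp_app, ← NatTrans.comp_app, ← Functor.map_comp,
    ← Functor.map_comp]
  congr 3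
  simp [CochainComplex.singleFunctor, CochainComplex.singleFunctors, single_map_f_self]

end SingleNat

/-- a module in degree zero tensor a complex -/
def singleTS (G : CochainComplex X.Modules ℤ) :
    CochainComplex.singleFunctor X.Modules 0 ⋙ (DCoh.tensorCx (X := X)).flip.obj G ≅ TS G :=
  (NatIso.ofComponents (fun M => SingleTotal.iso (DCoh.tensorBi (X := X)) M G)
    (fun f => singleTotal_natural (DCoh.tensorBi (X := X)) f G)).symm

/-- `M ↦ H^p(M ⊗^L F)` through a flat bounded above representative -/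
theorem exists_rep (F : CochainComplex X.Modules ℤ) [DCoh.HasLTensorCx F] (e : ℤ) [(DCoh.toD X F).IsLE e] :
    ∃ G : CochainComplex X.Modules ℤ, (∀ i, e < i → IsZero (G.X i)) ∧ (∀ i, FlatMod.IsFlat (G.X i)) ∧
      Nonempty (DCoh.toD X G ≅ DCoh.toD X F) ∧ ∀ p : ℤ,
      Nonempty (DerivedCategory.singleFunctor X.Modules 0 ⋙ DCoh.LTensorCx F ⋙
        DerivedCategory.homologyFunctor X.Modules p ≅ Hn (TS G) p) := by
  obtain ⟨G, hG, hk, hf, ⟨eG⟩⟩ := exists_flat_representative_le (DCoh.toD X F) e
    (fun i hi => DerivedCategory.isZero_of_isLE _ e i hi)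
  haveI := hG
  haveI := KFlat.hasLTensorCx G
  obtain ⟨t⟩ := RHom.nonempty_lt_iso eG
  refine ⟨G, fun i hi => G.isZero_of_isStrictlyLE e i hi, hf, ⟨eG⟩, fun p => ⟨?_⟩⟩
  exact Functor.isoWhiskerRight (DerivedCategory.singleFunctorIsoCompQ X.Modules 0) _ ≪≫
    Functor.associator _ _ _ ≪≫
    Functor.isoWhiskerLeft (CochainComplex.singleFunctor X.Modules 0)
      (Functor.isoWhiskerLeft DerivedCategory.Q (Functor.isoWhiskerRight t.symm _) ≪≫
        (Functor.associator _ _ _).symm ≪≫ Functor.isoWhiskerRight (Assoc.allIso G hk) _ ≪≫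
        Functor.associator _ _ _ ≪≫
        Functor.isoWhiskerLeft ((DCoh.tensorCx (X := X)).flip.obj G)
          (DerivedCategory.homologyFunctorFactors X.Modules p)) ≪≫
    (Functor.associator _ _ _).symm ≪≫ Functor.isoWhiskerRight (singleTS G) _

end Groth.L04.KSix
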