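import Groth.Agent.L04.KSix.NearStalk
import Groth.Agent.L04.KSix.TensorFun
import Groth.Agent.L04.KSix.RingRep
import Groth.Agent.L29.DCoh.PerfDescent

/-!
Flatness of the cokernel of a differential of a pseudo-coherent flat complex is open; half exactness of
`M ↦ H^p(M ⊗^L F)` spreads from a point.
-/

set_option autoImplicit false
set_option backward.isDefEq.respectTransparency false
set_option backward.isDefEq.respectTransparency.types false
set_option linter.style.haveILetI false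

universe u

open CategoryTheory CategoryTheory.Limits AlgebraicGeometry MonoidalCategory HomologicalComplex
open Groth.L29.DC Groth.L29.DC.PCStalk

attribute [local instance] HasDerivedCategory.standard

noncomputable section

namespace Groth.L04.KSix

open Groth.L00

variable {X : Scheme.{u}}

/-- the cokernel of `d^{n-1}` is flat at `x` -/
def CokFlat (G : CochainComplex X.Modules ℤ) (n : ℤ) (x : X) : Prop :=
  Module.Flat (X.presheaf.stalk x)
    (cokernel (((Stk.S X x).obj G).d (n - 1) n) : ModuleCat.{u} (X.presheaf.stalk x))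

theorem flat_coker_iso {A : Type u} [CommRing A] {P Q : DRing.Cx A} (e : P ≅ Q) (i j : ℤ)
    (h : Module.Flat A (cokernel (P.d i j) : ModuleCat.{u} A)) :
    Module.Flat A (cokernel (Q.d i j) : ModuleCat.{u} A) := by
  haveI := h
  exact Module.Flat.of_linearEquiv (cokernel.mapIso (Q.d i j) (P.d i j)
    ((HomologicalComplex.eval _ _ i).mapIso e.symm) ((HomologicalComplex.eval _ _ j).mapIso e.symm)
    (by simp)).toLinearEquiv

theorem cokFlat_res_iff {W : Scheme.{u}} (j : W ⟶ X) [IsOpenImmersion j] (G : CochainComplex X.Modules ℤ)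
    (n : ℤ) (w : W) :
    CokFlat (((Scheme.Modules.restrictFunctor j).mapHomologicalComplex (ComplexShape.up ℤ)).obj G) n w ↔
      CokFlat G n (j w) := by
  let g := Groth.L00.PullStalk.φ j w
  have hff := AmpDesc.faithfullyFlat j w
  let C := (Stk.S X (j w)).obj G
  let T := ModuleCat.extendScalars.{u, u, u} g
  haveI : PreservesFiniteLimits T := preservesLimits_ext j w
  haveI : PreservesFiniteColimits T := preservesColimits_ext j w
  let e := PreservesCokernel.iso T (C.d (n - 1) n)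
  have hc : Module.Flat (W.presheaf.stalk w) (cokernel (((extCx j w).obj C).d (n - 1) n) : ModuleCat.{u} (W.presheaf.stalk w)) ↔
      CokFlat G n (j w) := by
    constructor
    · intro h
      have h' := Groth.L00.TorAmp.flat_of_iso e h
      letI := g.toAlgebra
      haveI : Module.FaithfullyFlat (X.presheaf.stalk (j w)) (W.presheaf.stalk w) := hff
      haveI : Module.Flat (W.presheaf.stalk w) (TensorProduct (X.presheaf.stalk (j w)) (W.presheaf.stalk w)
        (cokernel (C.d (n - 1) n) : ModuleCat.{u} (X.presheaf.stalk (j w)))) := h'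
      exact Module.Flat.of_flat_tensorProduct (X.presheaf.stalk (j w)) _ (W.presheaf.stalk w)
    · intro h
      exact Groth.L00.TorAmp.flat_of_iso e.symm (Groth.L00.TorAmp.flat_extendScalars g _ h)
  exact ⟨fun h => hc.1 (flat_coker_iso (resStalkCx j w G) _ _ h),
    fun h => flat_coker_iso (resStalkCx j w G).symm _ _ (hc.2 h)⟩

/-- flatness of the cokernel at a point spreads to a neighbourhood -/
theorem exists_nhd_cokFlat {G : CochainComplex X.Modules ℤ} (hG : ∀ i, FlatMod.IsFlat (G.X i)) {bG : ℤ}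
    (hGb : ∀ i, bG < i → IsZero (G.X i)) {m : ℤ} (hpc : DCoh.IsPseudoCoherentD m (DCoh.toD X G))
    (n : ℤ) (hn : m < n) (x : X) (h : CokFlat G n x) :
    ∃ O : X.Opens, x ∈ O ∧ ∀ z ∈ O, CokFlat G n z := by
  obtain ⟨V, hxV, T, α, hT, hα⟩ := (isPC_iff_wit _ _).1 hpc x
  let α' : DCoh.toD (↑V) T ⟶ DCoh.toD (↑V) ((DCoh.restrictCx V).obj G) := α ≫ (resQIso V G).hom
  have hα' : Approx α' m := hα.comp (Approx.of_isIso _ _)
  obtain ⟨W, β, hxW, hβ⟩ := exists_local_chainMap hT α' ⟨x, hxV⟩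
  let G' := (DCoh.restrictCx W).obj ((DCoh.restrictCx V).obj G)
  let T' := (DCoh.restrictCx W).obj T
  have hA : Approx (DerivedCategory.Q.map β) m := by
    refine approx_congr (resQIso W T) (resQIso W ((DCoh.restrictCx V).obj G)) ?_
      (Approx.map_exact (Scheme.Modules.restrictFunctor W.ι) hα')
    change (resD W).map α' ≫ _ = _
    rw [hβ]
    simp [Category.assoc]
  have hG' : ∀ i, FlatMod.IsFlat (G'.X i) := fun i =>
    Groth.L00.KFlat.isFlat_of_iso ((Scheme.Modules.restrictFunctorIsoPullback W.ι).app _).symm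
      (Groth.L00.TorAmp.isFlat_pullback W.ι (Groth.L00.KFlat.isFlat_of_iso
        ((Scheme.Modules.restrictFunctorIsoPullback V.ι).app _).symm (Groth.L00.TorAmp.isFlat_pullback V.ι (hG i))))
  have hGb' : ∀ i, bG < i → IsZero (G'.X i) := fun i hi => (Scheme.Modules.restrictFunctor W.ι).map_isZero
    ((Scheme.Modules.restrictFunctor V.ι).map_isZero (hGb i hi))
  obtain ⟨⟨aT, bT, hv⟩, hf⟩ := isStrictlyPerfect_restrict W.ι hT
  have hTf : ∀ i, FlatMod.IsFlat (T'.X i) := fun i => isFlat_of_isFinLocFree (hf i)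
  have key : ∀ z : (W : Scheme.{u}), CokFlat T' n z ↔ CokFlat G' n z := fun z => by
    let F := Stk.F (W : Scheme.{u}) z
    have happ : Groth.L02.PC.IsApprox (DerivedCategory.Q.map ((Stk.S (W : Scheme.{u}) z).map β)) m :=
      approx_congr (F.mapDerivedCategoryFactors.app T') (F.mapDerivedCategoryFactors.app G')
        (F.mapDerivedCategoryFactors.hom.naturality β) (hA.map_exact F)
    exact flat_coker_congr ((Stk.S (W : Scheme.{u}) z).map β) (bP := bT) (bG := bG)
      (PerfDesc.flat_S hTf z) (PerfDesc.vanishesAbove_S (fun i hi => hv i (Or.inr hi)) z)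
      (PerfDesc.flat_S hG' z) (PerfDesc.vanishesAbove_S hGb' z) happ n hn
  let x' : (W : Scheme.{u}) := ⟨⟨x, hxV⟩, hxW⟩
  have hx' : CokFlat T' n x' :=
    (key x').2 ((cokFlat_res_iff W.ι _ n x').2 ((cokFlat_res_iff V.ι G n ⟨x, hxV⟩).2 h))
  obtain ⟨O, hxO, hO⟩ := PerfDesc.exists_nhd_coker (T'.d (n - 1) n) (hf _) (hf _) x' hx'
  refine ⟨V.ι ''ᵁ (W.ι ''ᵁ O), ⟨⟨x, hxV⟩, ⟨x', hxO, rfl⟩, rfl⟩, ?_⟩
  rintro _ ⟨_, ⟨z, hz, rfl⟩, rfl⟩
  refine (cokFlat_res_iff V.ι G n _).1 ((cokFlat_res_iff W.ι _ n z).1 ((key z).1 ?_))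
  refine (cokFlat_res_iff O.ι T' n ⟨z, hz⟩).1 ?_
  have h1 : Module.Flat ((O : Scheme.{u}).presheaf.stalk ⟨z, hz⟩)
      ((Stk.F (O : Scheme.{u}) ⟨z, hz⟩).obj (cokernel (((DCoh.restrictCx O).obj T').d (n - 1) n))) :=
    isFlat_of_isFinLocFree (Groth.L29.LocFree.of_iso
      (PreservesCokernel.iso (Scheme.Modules.restrictFunctor O.ι) (T'.d (n - 1) n)) hO) ⟨z, hz⟩
  exact Groth.L00.TorAmp.flat_of_iso (PreservesCokernel.iso (Stk.F (O : Scheme.{u}) ⟨z, hz⟩)
    (((DCoh.restrictCx O).obj T').d (n - 1) n)).symm h1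

theorem monoH_TS_iff_cokFlat {G : CochainComplex X.Modules ℤ} (hG : ∀ i, FlatMod.IsFlat (G.X i)) (n : ℤ) :
    MonoH (TS G) n ↔ ∀ x, CokFlat G n x :=
  (monoH_TS_iff G n).trans (forall_congr' fun x => monoH_iff_flat (PerfDesc.flat_S hG x) n)

/-- left or right exactness from the ring functor -/
theorem exists_ring_iso (F G : CochainComplex X.Modules ℤ) (e : DCoh.toD X G ≅ DCoh.toD X F)
    (hG : ∀ i, FlatMod.IsFlat (G.X i)) {bG : ℤ} (hGb : ∀ i, bG < i → IsZero (G.X i)) (x : X)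
    [DRing.HasLTensorCx (X.presheaf.stalk x) ((Stk.S X x).obj F)] (p : ℤ) :
    Nonempty (DerivedCategory.singleFunctor (ModuleCat.{u} (X.presheaf.stalk x)) 0 ⋙
      DRing.LTensorCx (X.presheaf.stalk x) ((Stk.S X x).obj F) ⋙
      DerivedCategory.homologyFunctor (ModuleCat.{u} (X.presheaf.stalk x)) p ≅ Hn (FT ((Stk.S X x).obj G)) p) := by
  let T := Stk.F X x
  exact exists_iso_Hn_FT _
    (Groth.L10.KFlat.of_bounded _ bG (PerfDesc.vanishesAbove_S hGb x) (PerfDesc.flat_S hG x))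
    ((T.mapDerivedCategoryFactors.app G).symm ≪≫ T.mapDerivedCategory.mapIso e ≪≫
      T.mapDerivedCategoryFactors.app F) p

variable (F : CochainComplex X.Modules ℤ) (e : ℤ) [(DCoh.toD X F).IsLE e] (p : ℤ) (x : X)

include e

variable [∀ U : X.Opens, DCoh.HasLTensorCx ((DCoh.restrictCx U).obj F)]

/-- the common part: from flatness of the cokernel near `x` to the functor on a neighbourhood -/
theorem exists_nhd_rep {G : CochainComplex X.Modules ℤ} (eG : DCoh.toD X G ≅ DCoh.toD X F)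
    (hG : ∀ i, FlatMod.IsFlat (G.X i)) (hGb : ∀ i, e < i → IsZero (G.X i)) {m : ℤ}
    (hpc : DCoh.IsPseudoCoherentD m (DCoh.toD X F)) (n : ℤ) (hn : m < n) (h : CokFlat G n x) :
    ∃ U : X.Opens, x ∈ U ∧ ∃ G' : CochainComplex (U : Scheme.{u}).Modules ℤ,
      (∀ i, FlatMod.IsFlat (G'.X i)) ∧ MonoH (TS G') n ∧ ∀ q : ℤ,
      Nonempty (DerivedCategory.singleFunctor (U : Scheme.{u}).Modules 0 ⋙ DCoh.LTensorCx ((DCoh.restrictCx U).obj F) ⋙
        DerivedCategory.homologyFunctor (U : Scheme.{u}).Modules q ≅ Hn (TS G') q) := by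
  obtain ⟨U, hxU, hU⟩ := exists_nhd_cokFlat hG hGb (isPseudoCoherentD_of_iso eG.symm hpc) n hn x h
  let R := Scheme.Modules.restrictFunctor U.ι
  let G₀ := (DCoh.restrictCx U).obj G
  haveI : (DCoh.toD (U : Scheme.{u}) ((DCoh.restrictCx U).obj F)).IsLE e := by
    haveI := Groth.L10.DerivedAdj.isLE_map (w := R) (DCoh.toD X F) e
    exact @Triangulated.TStructure.isLE_of_iso _ _ _ _ _ _ _ DerivedCategory.TStructure.t _ _
      (R.mapDerivedCategoryFactors.app F) e this
  obtain ⟨G', hG'b, hG'f, ⟨e'⟩, hrep⟩ := exists_rep ((DCoh.restrictCx U).obj F) e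
  refine ⟨U, hxU, G', hG'f, (monoH_TS_iff_cokFlat hG'f n).2 fun z => ?_, hrep⟩
  have h0 : CokFlat G₀ n z := (cokFlat_res_iff U.ι G n z).2 (hU _ z.2)
  have hf₀ : ∀ i, FlatMod.IsFlat (G₀.X i) := fun i =>
    Groth.L00.KFlat.isFlat_of_iso ((Scheme.Modules.restrictFunctorIsoPullback U.ι).app _).symm
      (Groth.L00.TorAmp.isFlat_pullback U.ι (hG i))
  let T := Stk.F (U : Scheme.{u}) z
  let ez : DRing.toD ((Stk.S (U : Scheme.{u}) z).obj G₀) ≅ DRing.toD ((Stk.S (U : Scheme.{u}) z).obj G') :=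
    (T.mapDerivedCategoryFactors.app G₀).symm ≪≫
      T.mapDerivedCategory.mapIso ((R.mapDerivedCategoryFactors.app G).symm ≪≫
        R.mapDerivedCategory.mapIso eG ≪≫ R.mapDerivedCategoryFactors.app F ≪≫ e'.symm) ≪≫
      T.mapDerivedCategoryFactors.app G'
  have hb₀ : DRing.VanishesAbove ((Stk.S (U : Scheme.{u}) z).obj G₀) e :=
    PerfDesc.vanishesAbove_S (fun i hi => R.map_isZero (hGb i hi)) z
  obtain ⟨Q, b, hQb, hQf, hQk, ⟨eQ⟩⟩ : ∃ (Q : DRing.Cx ((U : Scheme.{u}).presheaf.stalk z)) (b : ℤ),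
      DRing.VanishesAbove Q b ∧ (∀ i, Module.Free _ (Q.X i)) ∧ Q.IsKProjective ∧
        Nonempty (DRing.toD Q ≅ DRing.toD ((Stk.S (U : Scheme.{u}) z).obj G₀)) := by
    obtain ⟨Q, h1, h2, h3, h4⟩ := Groth.L02.PC.exists_free_rep (n := e) (fun i hi =>
      (Groth.L02.PC.isZero_HH_Q_iff _ i).2 ((HomologicalComplex.exactAt_iff_isZero_homology _ i).1
        (HomologicalComplex.ExactAt.of_isZero (hb₀ i hi))))
    exact ⟨Q, e, h1, h2, h3, h4⟩
  haveI := hQk
  obtain ⟨f₀, hf₀'⟩ := Groth.L02.PC.exists_chainMap eQ.hom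
  obtain ⟨f₁, hf₁'⟩ := Groth.L02.PC.exists_chainMap (eQ.hom ≫ ez.hom)
  have a₀ : Groth.L02.PC.IsApprox (DerivedCategory.Q.map f₀) (n - 1) := by
    rw [hf₀']; exact Groth.L02.PC.IsApprox.of_isIso _ _
  have a₁ : Groth.L02.PC.IsApprox (DerivedCategory.Q.map f₁) (n - 1) := by
    rw [hf₁']; exact Groth.L02.PC.IsApprox.of_isIso _ _
  have hQfl := Groth.L10.DR.flat_of_free hQf
  exact (flat_coker_congr f₁ hQfl hQb (PerfDesc.flat_S hG'f z) (PerfDesc.vanishesAbove_S hG'b z) a₁ n (by omega)).1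
    ((flat_coker_congr f₀ hQfl hQb (PerfDesc.flat_S hf₀ z) hb₀ a₀ n (by omega)).2 h0)

variable [DRing.HasLTensorCx (X.presheaf.stalk x)
  (((DerSch.stalkFunctor X x).mapHomologicalComplex (ComplexShape.up ℤ)).obj F)]

theorem spread_rightExact (hE : DCoh.IsPseudoCoherentD p (DCoh.toD X F))
    (hR : PreservesFiniteColimits (DerivedCategory.singleFunctor (ModuleCat.{u} (X.presheaf.stalk x)) 0 ⋙ DRing.LTensorCx (X.presheaf.stalk x) (((DerSch.stalkFunctor X x).mapHomologicalComplex (ComplexShape.up ℤ)).obj F) ⋙ DerivedCategory.homologyFunctor (ModuleCat.{u} (X.presheaf.stalk x)) p)) :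
    ∃ U : X.Opens, x ∈ U ∧ PreservesFiniteColimits (DerivedCategory.singleFunctor (U : Scheme.{u}).Modules 0 ⋙ DCoh.LTensorCx ((DCoh.restrictCx U).obj F) ⋙ DerivedCategory.homologyFunctor (U : Scheme.{u}).Modules p) := by
  obtain ⟨G, hGs, -, hGf, ⟨eG⟩⟩ := exists_flat_representative_le (DCoh.toD X F) e
    (fun i hi => DerivedCategory.isZero_of_isLE _ e i hi)
  haveI := hGs
  have hGb : ∀ i, e < i → IsZero (G.X i) := fun i hi => G.isZero_of_isStrictlyLE e i hi
  obtain ⟨t⟩ := exists_ring_iso F G eG hGf hGb x p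
  haveI := hR
  have h1 : PreservesFiniteColimits (Hn (FT ((Stk.S X x).obj G)) p) := preservesFiniteColimits_of_natIso t
  have h2 := (monoH_iff_flat (PerfDesc.flat_S hGf x) (p + 1)).1
    ((preservesFiniteColimits_iff (shortExact_FT (PerfDesc.flat_S hGf x)) p).1 h1)
  obtain ⟨U, hxU, G', hG', hm, hrep⟩ := exists_nhd_rep F e x eG hGf hGb hE (p + 1) (by omega) h2
  obtain ⟨s⟩ := hrep p
  haveI := (preservesFiniteColimits_iff (shortExact_TS hG') p).2 hm
  exact ⟨U, hxU, preservesFiniteColimits_of_natIso s.symm⟩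

theorem spread_leftExact (hE : DCoh.IsPseudoCoherentD (p - 1) (DCoh.toD X F))
    (hR : PreservesFiniteLimits (DerivedCategory.singleFunctor (ModuleCat.{u} (X.presheaf.stalk x)) 0 ⋙ DRing.LTensorCx (X.presheaf.stalk x) (((DerSch.stalkFunctor X x).mapHomologicalComplex (ComplexShape.up ℤ)).obj F) ⋙ DerivedCategory.homologyFunctor (ModuleCat.{u} (X.presheaf.stalk x)) p)) :
    ∃ U : X.Opens, x ∈ U ∧ PreservesFiniteLimits (DerivedCategory.singleFunctor (U : Scheme.{u}).Modules 0 ⋙ DCoh.LTensorCx ((DCoh.restrictCx U).obj F) ⋙ DerivedCategory.homologyFunctor (U : Scheme.{u}).Modules p) := by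
  obtain ⟨G, hGs, -, hGf, ⟨eG⟩⟩ := exists_flat_representative_le (DCoh.toD X F) e
    (fun i hi => DerivedCategory.isZero_of_isLE _ e i hi)
  haveI := hGs
  have hGb : ∀ i, e < i → IsZero (G.X i) := fun i hi => G.isZero_of_isStrictlyLE e i hi
  obtain ⟨t⟩ := exists_ring_iso F G eG hGf hGb x p
  haveI := hR
  have h1 : PreservesFiniteLimits (Hn (FT ((Stk.S X x).obj G)) p) := preservesFiniteLimits_of_natIso t
  have h2 := (monoH_iff_flat (PerfDesc.flat_S hGf x) p).1
    ((preservesFiniteLimits_iff (shortExact_FT (PerfDesc.flat_S hGf x)) p).1 h1)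
  obtain ⟨U, hxU, G', hG', hm, hrep⟩ := exists_nhd_rep F e x eG hGf hGb hE p (by omega) h2
  obtain ⟨s⟩ := hrep p
  haveI := (preservesFiniteLimits_iff (shortExact_TS hG') p).2 hm
  exact ⟨U, hxU, preservesFiniteLimits_of_natIso s.symm⟩

end Groth.L04.KSix
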