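import Groth.Agent.L04.KSix.NearStalk

/-!
Isomorphisms of stalks of pseudo-coherent bounded complexes spread out.
-/

set_option autoImplicit false
set_option backward.isDefEq.respectTransparency false
set_option backward.isDefEq.respectTransparency.types false
set_option linter.style.haveILetI false

universe u

open CategoryTheory CategoryTheory.Limits CategoryTheory.Pretriangulated AlgebraicGeometry HomologicalComplex
open Groth.L29.DC Groth.L29.DC.PCStalk Groth.L29.DC.Fib

attribute [local instance] preservesBinaryBiproducts_of_preservesBinaryCoproducts HasDerivedCategory.standard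

noncomputable section

namespace Groth.L04.KSix

variable {X : Scheme.{u}}

/-- the two complexes are isomorphic in the derived category near `x` -/
def IsoNear (E F : CochainComplex X.Modules ℤ) (x : X) : Prop :=
  ∃ U : X.Opens, x ∈ U ∧
    Nonempty (DerivedCategory.Q.obj ((DCoh.restrictCx U).obj E) ≅ DerivedCategory.Q.obj ((DCoh.restrictCx U).obj F))

/-- restriction of complexes along an open immersion -/
abbrev resCx {Y : Scheme.{u}} (j : Y ⟶ X) [IsOpenImmersion j] :=
  (Scheme.Modules.restrictFunctor j).mapHomologicalComplex (ComplexShape.up ℤ)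

theorem IsoNear.of_on {Y : Scheme.{u}} (j : Y ⟶ X) [IsOpenImmersion j] {E F : CochainComplex X.Modules ℤ} {x : X}
    (hx : x ∈ j.opensRange) (h : Nonempty (DerivedCategory.Q.obj ((resCx j).obj E) ≅ DerivedCategory.Q.obj ((resCx j).obj F))) :
    IsoNear E F x := by
  obtain ⟨e⟩ := h
  let k := j.isoOpensRange.inv
  let R := Scheme.Modules.restrictFunctor k
  let t := resTransCx j k j.opensRange.ι j.isoOpensRange_inv_comp
  exact ⟨j.opensRange, hx, ⟨DerivedCategory.Q.mapIso (t.app E).symm ≪≫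
    (R.mapDerivedCategoryFactors.app ((resCx j).obj E)).symm ≪≫ R.mapDerivedCategory.mapIso e ≪≫
    R.mapDerivedCategoryFactors.app ((resCx j).obj F) ≪≫ DerivedCategory.Q.mapIso (t.app F)⟩⟩

theorem IsoNear.of_sub {Y : Scheme.{u}} (j : Y ⟶ X) [IsOpenImmersion j] {E F : CochainComplex X.Modules ℤ} {y : Y}
    (h : IsoNear ((resCx j).obj E) ((resCx j).obj F) y) : IsoNear E F (j y) := by
  obtain ⟨U, hy, ⟨e⟩⟩ := h
  let t := resTransCx j U.ι (U.ι ≫ j) rfl
  exact IsoNear.of_on (U.ι ≫ j) ⟨⟨y, hy⟩, rfl⟩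
    ⟨DerivedCategory.Q.mapIso (t.app E).symm ≪≫ e ≪≫ DerivedCategory.Q.mapIso (t.app F)⟩

/-- stalks of cohomology, as a functor -/
abbrev stkH (x : X) (i : ℤ) : DCoh.D X ⥤ ModuleCat.{u} (X.presheaf.stalk x) :=
  DerivedCategory.homologyFunctor X.Modules i ⋙ Groth.L00.Stk.F X x

theorem isIso_stkH_Q {E F : CochainComplex X.Modules ℤ} (β : E ⟶ F) (x : X) (i : ℤ)
    (h : QuasiIsoAt ((Groth.L00.Stk.S X x).map β) i) : IsIso ((stkH x i).map (DerivedCategory.Q.map β)) := by
  rw [quasiIsoAt_iff_isIso_homologyMap] at h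
  haveI : IsIso ((Groth.L00.Stk.F X x).map (homologyMap β i)) :=
    (NatIso.isIso_map_iff (ShortComplex.homologyFunctorIso (Groth.L00.Stk.F X x))
      ((shortComplexFunctor _ _ i).map β)).1 h
  exact (NatIso.isIso_map_iff (Functor.isoWhiskerRight (DerivedCategory.homologyFunctorFactors X.Modules i)
    (Groth.L00.Stk.F X x)) β).2 this

theorem projective_stalk {n : ℕ} {M : X.Modules} (e : M ≅ FlatMod.freeMod X n) (x : X) :
    Module.Projective (X.presheaf.stalk x) ((Groth.L00.Stk.F X x).obj M) :=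
  Module.Projective.of_equiv ((coord (RingHom.id (X.presheaf.stalk x)) n).symm ≪≫ₗ
    ((Φ (RingHom.id (X.presheaf.stalk x))).mapIso e.symm).toLinearEquiv ≪≫ₗ
    ((ModuleCat.extendScalarsId (X.presheaf.stalk x)).app _).toLinearEquiv)

theorem isGE_restrict {Y : Scheme.{u}} (j : Y ⟶ X) [IsOpenImmersion j] (E : CochainComplex X.Modules ℤ) (c : ℤ)
    [(DCoh.toD X E).IsGE c] : (DCoh.toD Y ((resCx j).obj E)).IsGE c := by
  haveI := Groth.L10.DerivedAdj.isGE_map (w := Scheme.Modules.restrictFunctor j) (DCoh.toD X E) c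
  exact @Triangulated.TStructure.isGE_of_iso _ _ _ _ _ _ _ DerivedCategory.TStructure.t _ _
    ((Scheme.Modules.restrictFunctor j).mapDerivedCategoryFactors.app E) c this

theorem pc_restrict {Y : Scheme.{u}} (j : Y ⟶ X) [IsOpenImmersion j] (E : CochainComplex X.Modules ℤ) (m : ℤ)
    (h : DCoh.IsPseudoCoherentD m (DCoh.toD X E)) : DCoh.IsPseudoCoherentD m (DCoh.toD Y ((resCx j).obj E)) :=
  isPseudoCoherentD_of_iso ((Scheme.Modules.restrictFunctor j).mapDerivedCategoryFactors.app E) (pc_res j h)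

/-- a map between pseudo-coherent bounded below objects which is iso on stalks of cohomology at `x` is iso near `x` -/
theorem isoNear_of_stalk {E F : CochainComplex X.Modules ℤ} (c : ℤ) [(DCoh.toD X E).IsGE c]
    [(DCoh.toD X F).IsGE c] (hE : ∀ m, DCoh.IsPseudoCoherentD m (DCoh.toD X E))
    (hF : ∀ m, DCoh.IsPseudoCoherentD m (DCoh.toD X F)) (g : DCoh.toD X E ⟶ DCoh.toD X F) (x : X)
    (hg : ∀ i, IsIso ((stkH x i).map g)) : IsoNear E F x := by
  obtain ⟨C, p, q, hT⟩ := distinguished_cocone_triangle g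
  let T := Triangle.mk g p q
  have hz : ∀ i, IsZero (stk C i x) := fun i => by
    let G := Groth.L00.Stk.F X x
    haveI := hg i
    haveI := hg (i + 1)
    have h2 : G.map ((DerivedCategory.homologyFunctor _ i).map p) = 0 := by
      rw [← cancel_epi ((stkH x i).map g), comp_zero, Functor.comp_map, ← G.map_comp, ← Functor.map_comp]
      rw [show g ≫ p = 0 from comp_distTriang_mor_zero₁₂ T hT, Functor.map_zero, Functor.map_zero]
    have h3 : G.map (DerivedCategory.HomologySequence.δ T i (i + 1) rfl) = 0 := by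
      rw [← cancel_mono ((stkH x (i + 1)).map g), zero_comp, Functor.comp_map, ← G.map_comp]
      exact (congrArg G.map (DerivedCategory.HomologySequence.δ_comp T hT i (i + 1) rfl)).trans (G.map_zero _ _)
    exact ((DerivedCategory.HomologySequence.exact₃ T hT i (i + 1) rfl).map G).isZero_of_both_zeros h2 h3
  have hlow : ∀ i, i < c - 1 → IsZero (DCoh.HD C i) := fun i hi =>
    (DerivedCategory.HomologySequence.exact₃ T hT i (i + 1) rfl).isZero_of_both_zeros
      (((DerivedCategory.isGE_iff (DCoh.toD X F) c).1 inferInstance i (by omega)).eq_of_src _ _)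
      (((DerivedCategory.isGE_iff (DCoh.toD X E) c).1 inferInstance (i + 1) (by omega)).eq_of_tgt _ _)
  have hC : DCoh.IsPseudoCoherentD (c - 1) C := pc_third hT (hE _) (hF _)
  let O : X.Opens := ⟨van C (c - 1), isOpen_van hC le_rfl⟩
  have hxO : x ∈ O := fun i _ => hz i
  have hzero : IsZero ((resD O).obj C) := by
    refine AmpDesc.flatAmp_descends.isZero_of_HD _ fun i => ?_
    by_cases hi : c - 1 ≤ i
    · exact isZero_of_subset_van O (le_refl _) hi
    · exact ((Scheme.Modules.restrictFunctor O.ι).map_isZero (hlow i (by omega))).of_iso (HDResIso O.ι _ i)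
  haveI : IsIso ((resD O).map g) :=
    (Triangle.isZero₃_iff_isIso₁ _ ((resD O).map_distinguished _ hT)).1 hzero
  exact ⟨O, hxO, ⟨(resQIso O E).symm ≪≫ asIso ((resD O).map g) ≪≫ resQIso O F⟩⟩

/-- the case of a global approximation by free modules -/
theorem isoNear_core {E F : CochainComplex X.Modules ℤ} (c : ℤ) [(DCoh.toD X E).IsGE c]
    [(DCoh.toD X F).IsGE c] (hE : ∀ m, DCoh.IsPseudoCoherentD m (DCoh.toD X E))
    (hF : ∀ m, DCoh.IsPseudoCoherentD m (DCoh.toD X F)) {P : CochainComplex X.Modules ℤ} (a b : ℤ)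
    (hP : ∀ i, i < a ∨ b < i → IsZero (P.X i)) (n : ℤ → ℕ) (e : ∀ i, P.X i ≅ FlatMod.freeMod X (n i))
    (α : DCoh.toD X P ⟶ DCoh.toD X E) (hα : Approx α (c - 2)) (x : X)
    (φ : DRing.toD ((Groth.L00.Stk.S X x).obj E) ≅ DRing.toD ((Groth.L00.Stk.S X x).obj F)) :
    IsoNear E F x := by
  let G := Groth.L00.Stk.F X x
  let η := G.mapDerivedCategoryFactors
  let αx : DRing.toD ((Groth.L00.Stk.S X x).obj P) ⟶ DRing.toD ((Groth.L00.Stk.S X x).obj E) :=
    η.inv.app P ≫ G.mapDerivedCategory.map α ≫ η.hom.app E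
  have hαx : Approx (αx ≫ φ.hom) (c - 2) :=
    ((Approx.of_isIso _ _).comp ((hα.map_exact G).comp (Approx.of_isIso _ _))).comp (Approx.of_isIso _ _)
  haveI : CochainComplex.IsKProjective ((Groth.L00.Stk.S X x).obj P) :=
    Groth.L02.PC.isKProjective_of_vanishesAbove (b := b) (fun i hi => G.map_isZero (hP i (Or.inr hi)))
      (fun i => projective_stalk (e i) x)
  obtain ⟨γ, hγ⟩ := Groth.L02.PC.exists_chainMap (αx ≫ φ.hom)
  obtain ⟨O, hxO, β, hβ⟩ := exists_chainMap_nhd a b hP n e γ
  let w : (O : Scheme.{u}) := ⟨x, hxO⟩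
  have hβi : ∀ i, c - 2 < i → IsIso ((stkH w i).map (DerivedCategory.Q.map β)) := fun i hi => by
    haveI h0 : QuasiIsoAt γ i := by
      rw [quasiIsoAt_iff_isIso_homologyMap]
      exact (NatIso.isIso_map_iff (DerivedCategory.homologyFunctorFactors _ i) γ).1 (by
        show IsIso ((DerivedCategory.homologyFunctor _ i).map (DerivedCategory.Q.map γ))
        rw [hγ]
        exact hαx.1 i hi)
    haveI := preservesLimits_ext O.ι w
    haveI := preservesColimits_ext O.ι w
    refine isIso_stkH_Q β w i ?_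
    rw [hβ]
    haveI : QuasiIsoAt ((extCx O.ι w).map γ) i := quasiIsoAt_map_of_preservesHomology γ _ i
    infer_instance
  haveI : (DCoh.toD (O : Scheme.{u}) ((DCoh.restrictCx O).obj E)).IsGE c := isGE_restrict O.ι E c
  haveI : (DCoh.toD (O : Scheme.{u}) ((DCoh.restrictCx O).obj F)).IsGE c := isGE_restrict O.ι F c
  let αO : DCoh.toD (O : Scheme.{u}) ((DCoh.restrictCx O).obj P) ⟶ DCoh.toD (O : Scheme.{u}) ((DCoh.restrictCx O).obj E) :=
    (resQIso O P).inv ≫ (resD O).map α ≫ (resQIso O E).hom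
  have hαO : Approx αO (c - 2) :=
    (Approx.of_isIso _ _).comp ((hα.map_exact (Scheme.Modules.restrictFunctor O.ι)).comp (Approx.of_isIso _ _))
  obtain ⟨C, p, q, hT⟩ := distinguished_cocone_triangle αO
  let T := Triangle.mk αO p q
  haveI : C.IsLE (c - 2 - 1) := (approx_iff_triangle T hT (c - 2)).1 hαO
  obtain ⟨g, hg⟩ := Triangle.yoneda_exact₂ T.invRotate (inv_rot_of_distTriang _ hT) (DerivedCategory.Q.map β) (by
    haveI : (T.invRotate.obj₁).IsLE (c - 2) :=
      DerivedCategory.TStructure.t.isLE_shift C (c - 2 - 1) (-1) (c - 2) (by omega)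
    exact DerivedCategory.TStructure.t.zero _ (c - 2) c (by omega))
  refine IsoNear.of_sub O.ι (y := w) (isoNear_of_stalk c (fun m => pc_restrict O.ι E m (hE m))
    (fun m => pc_restrict O.ι F m (hF m)) g w fun i => ?_)
  by_cases hi : c - 2 < i
  · haveI : IsIso ((stkH w i).map αO) := by
      haveI := hαO.1 i hi
      rw [Functor.comp_map]; infer_instance
    haveI := hβi i hi
    refine IsIso.of_isIso_fac_left (f := (stkH w i).map αO) (h := (stkH w i).map (DerivedCategory.Q.map β)) ?_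
    rw [← Functor.map_comp]
    exact congrArg _ hg.symm
  · exact isIso_of_source_target_iso_zero _
      ((Groth.L00.Stk.F _ w).map_isZero ((DerivedCategory.isGE_iff _ c).1 inferInstance i (by omega))).isoZero
      ((Groth.L00.Stk.F _ w).map_isZero ((DerivedCategory.isGE_iff _ c).1 inferInstance i (by omega))).isoZero

theorem exists_iso_nhd {X : Scheme.{u}} (x : X) (E F : CochainComplex X.Modules ℤ) (c : ℤ)
    [(DCoh.toD X E).IsGE c] [(DCoh.toD X F).IsGE c]
    (hE : ∀ m : ℤ, DCoh.IsPseudoCoherentD m (DCoh.toD X E)) (hF : ∀ m : ℤ, DCoh.IsPseudoCoherentD m (DCoh.toD X F))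
    (hx : Nonempty (DRing.toD ((Groth.L00.Stk.S X x).obj E) ≅ DRing.toD ((Groth.L00.Stk.S X x).obj F))) :
    IsoNear E F x := by
  classical
  obtain ⟨φ⟩ := hx
  obtain ⟨V, hxV, P, α, ⟨⟨a, b, hP⟩, hPf⟩, hα⟩ := (isPC_iff_wit (c - 2) _).1 (hE (c - 2)) x
  let v : (V : Scheme.{u}) := ⟨x, hxV⟩
  choose W₁ n₁ hv₁ e₁ using fun i => hPf i v
  let W : (V : Scheme.{u}).Opens := (Finset.Icc a b).inf W₁
  have hvW : v ∈ W := by
    show v ∈ ((((Finset.Icc a b).inf W₁ : (V : Scheme.{u}).Opens)) : Set (V : Scheme.{u}))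
    rw [TopologicalSpace.Opens.coe_finset_inf]
    simp [hv₁]
  let R := Scheme.Modules.restrictFunctor W.ι
  have he : ∀ i, ∃ k, Nonempty (R.obj (P.X i) ≅ FlatMod.freeMod (W : Scheme.{u}) k) := fun i => by
    by_cases hi : i ∈ Finset.Icc a b
    · exact ⟨_, Groth.L29.LocFree.restrict_le (Finset.inf_le hi) (e₁ i).some⟩
    · refine ⟨0, ⟨IsZero.iso (R.map_isZero (hP i (by rw [Finset.mem_Icc] at hi; omega))) ?_⟩⟩
      rw [IsZero.iff_id_eq_zero]
      exact Sigma.hom_ext _ _ fun q => q.elim0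
  choose n e using fun i => (he i)
  let j := W.ι ≫ V.ι
  let y : (W : Scheme.{u}) := ⟨v, hvW⟩
  let t := resTransCx V.ι W.ι j rfl
  let α' : DCoh.toD (W : Scheme.{u}) ((DCoh.restrictCx W).obj P) ⟶ DCoh.toD (W : Scheme.{u}) ((resCx j).obj E) :=
    (resQIso W P).inv ≫ (resD W).map (α ≫ (resQIso V E).hom) ≫ (resQIso W _).hom ≫ DerivedCategory.Q.map (t.hom.app E)
  have hα' : Approx α' (c - 2) :=
    (Approx.of_isIso _ _).comp (((hα.comp (Approx.of_isIso _ _)).map_exact R).comp (Approx.of_isIso _ _))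
  haveI : (DCoh.toD (W : Scheme.{u}) ((resCx j).obj E)).IsGE c := isGE_restrict j E c
  haveI : (DCoh.toD (W : Scheme.{u}) ((resCx j).obj F)).IsGE c := isGE_restrict j F c
  haveI := preservesLimits_ext j y
  haveI := preservesColimits_ext j y
  let Ext := ModuleCat.extendScalars.{u, u, u} (Groth.L00.PullStalk.φ j y)
  refine IsoNear.of_sub j (y := y) (isoNear_core c (fun m => pc_restrict j E m (hE m))
    (fun m => pc_restrict j F m (hF m)) a b (fun i hi => R.map_isZero (hP i hi)) n (fun i => (e i).some) α' hα' y ?_)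
  exact DerivedCategory.Q.mapIso (resStalkCx j y E) ≪≫
    (Ext.mapDerivedCategoryFactors.app ((Groth.L00.Stk.S X x).obj E)).symm ≪≫ Ext.mapDerivedCategory.mapIso φ ≪≫
    Ext.mapDerivedCategoryFactors.app ((Groth.L00.Stk.S X x).obj F) ≪≫
    DerivedCategory.Q.mapIso (resStalkCx j y F).symm

end Groth.L04.KSix
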