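import Groth.Agent.L04.KSix.FreeStalk
import Mathlib.RingTheory.LocalRing.Module
import Mathlib.Data.Int.Interval

/-!
Perfect complexes over local rings spread out to neighbourhoods.
-/

set_option autoImplicit false
set_option backward.isDefEq.respectTransparency false
set_option backward.isDefEq.respectTransparency.types false
set_option linter.style.haveILetI false

universe u

open CategoryTheory CategoryTheory.Limits AlgebraicGeometry Opposite TensorProduct Groth.L29.DC.Fib

attribute [local instance] preservesBinaryBiproducts_of_preservesBinaryCoproducts HasDerivedCategory.standard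

noncomputable section

namespace Groth.L04.KSix

variable {X : Scheme.{u}} (x : X)

/-- finitely many germs are germs of sections over one open -/
theorem exists_lift (S : Finset (X.presheaf.stalk x)) :
    ∃ (W : X.Opens) (hx : x ∈ W) (l : X.presheaf.stalk x → Γ(X, W)),
      ∀ r ∈ S, X.presheaf.germ W x hx (l r) = r := by
  classical
  induction S using Finset.induction_on with
  | empty => exact ⟨⊤, trivial, fun _ => 0, by simp⟩
  | insert a S ha ih =>
    obtain ⟨W, hx, l, hl⟩ := ih
    obtain ⟨V, hxV, s, hs⟩ := TopCat.Presheaf.exists_germ_eq X.presheaf a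
    refine ⟨W ⊓ V, ⟨hx, hxV⟩, fun r => if r = a then X.presheaf.map (homOfLE inf_le_right).op s
      else X.presheaf.map (homOfLE inf_le_left).op (l r), fun r hr => ?_⟩
    dsimp only
    split_ifs with h
    · rw [TopCat.Presheaf.germ_res_apply, h, hs]
    · rw [TopCat.Presheaf.germ_res_apply]
      exact hl r ((Finset.mem_insert.1 hr).resolve_left h)

/-- finitely many sections with vanishing germ vanish near the point -/
theorem exists_res_zero {W : X.Opens} (hx : x ∈ W) (T : Finset Γ(X, W))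
    (h : ∀ s ∈ T, X.presheaf.germ W x hx s = 0) :
    ∃ (V : X.Opens) (hV : V ≤ W), x ∈ V ∧ ∀ s ∈ T, X.presheaf.map (homOfLE hV).op s = 0 := by
  classical
  induction T using Finset.induction_on with
  | empty => exact ⟨W, le_rfl, hx, by simp⟩
  | insert a T ha ih =>
    obtain ⟨V, hV, hxV, hT⟩ := ih fun s hs => h s (Finset.mem_insert_of_mem hs)
    obtain ⟨U, hxU, iU, iU', hU⟩ := X.presheaf.germ_eq x hx hx a 0
      (by rw [h a (Finset.mem_insert_self _ _), map_zero])
    have hUW : U ≤ W := iU.le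
    refine ⟨U ⊓ V, inf_le_left.trans hUW, ⟨hxU, hxV⟩, fun s hs => ?_⟩
    rcases Finset.mem_insert.1 hs with rfl | hs
    · have e : X.presheaf.map (homOfLE hUW).op s = 0 := hU.trans (map_zero _)
      rw [show (homOfLE (inf_le_left.trans hUW : U ⊓ V ≤ W)).op =
        (homOfLE hUW).op ≫ (homOfLE (inf_le_left : U ⊓ V ≤ U)).op from rfl, Functor.map_comp,
        ConcreteCategory.comp_apply, e, map_zero]
    · rw [show (homOfLE (inf_le_left.trans hUW : U ⊓ V ≤ W)).op =
        (homOfLE hV).op ≫ (homOfLE (inf_le_right : U ⊓ V ≤ V)).op from rfl, Functor.map_comp,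
        ConcreteCategory.comp_apply, hT s hs, map_zero]

theorem isFinLocFree_freeMod {W : Scheme.{u}} (n : ℕ) : FlatMod.IsFinLocFree (FlatMod.freeMod W n) := fun y =>
  ⟨⊤, n, trivial, ⟨(Scheme.Modules.restrictFunctorIsoPullback _).app _ ≪≫ Groth.L29.LocFree.pullbackFreeIso _ n⟩⟩

theorem isZero_freeMod {W : Scheme.{u}} {n : ℕ} (h : n = 0) : IsZero (FlatMod.freeMod W n) := by
  subst h
  rw [IsZero.iff_id_eq_zero]
  exact Sigma.hom_ext _ _ fun i => i.elim0

theorem exists_perfect_nhd (P : Dual.D ((X.presheaf.stalk x) : Type u))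
    (hP : DRing.IsPerfect ((X.presheaf.stalk x) : Type u) P) :
    ∃ (U : X.Opens) (F' : CochainComplex X.Modules ℤ), x ∈ U ∧
      DCoh.IsPerfect (DerivedCategory.Q.obj ((DCoh.restrictCx U).obj F')) ∧
      Nonempty (DRing.toD (((DerSch.stalkFunctor X x).mapHomologicalComplex (ComplexShape.up ℤ)).obj F') ≅ P) := by
  classical
  obtain ⟨E, a, b, hv, hproj, ⟨eE⟩⟩ := hP
  let R : Type u := X.presheaf.stalk x
  haveI : ∀ i, Module.Finite R (E.X i) := fun i => (hproj i).1
  haveI : ∀ i, Module.Free R (E.X i) := fun i => haveI := (hproj i).2; Module.free_of_flat_of_isLocalRing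
  let n : ℤ → ℕ := fun i => Module.finrank R (E.X i)
  let bas : ∀ i, Module.Basis (Fin (n i)) R (E.X i) := fun i => Module.finBasis R (E.X i)
  let A : ∀ i, Matrix (Fin (n (i + 1))) (Fin (n i)) R := fun i =>
    LinearMap.toMatrix (bas i) (bas (i + 1)) (E.d i (i + 1)).hom
  have hn0 : ∀ i, i < a ∨ b < i → n i = 0 := fun i hi => by
    haveI := ModuleCat.subsingleton_of_isZero (hv i hi)
    exact Module.finrank_zero_of_subsingleton
  have hin : ∀ (i : ℤ), 0 < n i → i ∈ Finset.Icc a b := fun i hi => by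
    rw [Finset.mem_Icc]
    by_contra h
    have := hn0 i (by omega)
    omega
  let S : Finset R := (Finset.Icc a b).biUnion fun i => Finset.univ.image fun q : Fin (n (i + 1)) × Fin (n i) => A i q.1 q.2
  have hS : ∀ i s t, A i s t ∈ S := fun i s t =>
    Finset.mem_biUnion.2 ⟨i, hin i t.pos, Finset.mem_image.2 ⟨(s, t), Finset.mem_univ _, rfl⟩⟩
  obtain ⟨W₀, hx₀, l, hl⟩ := exists_lift x S
  let A₀ : ∀ i, Matrix (Fin (n (i + 1))) (Fin (n i)) Γ(X, W₀) := fun i => (A i).map l
  have hA₀ : ∀ i, (A₀ i).map (X.presheaf.germ W₀ x hx₀).hom = A i := fun i =>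
    Matrix.ext fun s t => hl _ (hS i s t)
  have hsq : ∀ i, A (i + 1) * A i = 0 := fun i => by
    show LinearMap.toMatrix _ _ _ * LinearMap.toMatrix _ _ _ = 0
    rw [← LinearMap.toMatrix_comp, ← ModuleCat.hom_comp, E.d_comp_d]
    simp
  let T : Finset Γ(X, W₀) := (Finset.Icc a b).biUnion fun i =>
    Finset.univ.image fun q : Fin (n (i + 1 + 1)) × Fin (n i) => (A₀ (i + 1) * A₀ i) q.1 q.2
  obtain ⟨U, hUW, hxU, hT⟩ := exists_res_zero x hx₀ T (fun s hs => by
    obtain ⟨i, -, hs⟩ := Finset.mem_biUnion.1 hs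
    obtain ⟨q, -, rfl⟩ := Finset.mem_image.1 hs
    have e : ((A₀ (i + 1) * A₀ i).map (X.presheaf.germ W₀ x hx₀).hom) = 0 := by
      rw [Matrix.map_mul, hA₀, hA₀, hsq]
    exact congrFun (congrFun e q.1) q.2)
  -- the complex on `U`
  let j := U.ι
  let g : Γ(X, W₀) →+* Γ((U : Scheme.{u}), ⊤) := (j.appLE W₀ ⊤ (fun y _ => hUW y.2)).hom
  let B : ∀ i, Matrix (Fin (n (i + 1))) (Fin (n i)) Γ((U : Scheme.{u}), ⊤) := fun i => (A₀ i).map g
  have hB : ∀ i, B (i + 1) * B i = 0 := fun i => Matrix.ext fun s t => by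
    rw [show B (i + 1) * B i = (A₀ (i + 1) * A₀ i).map g from (Matrix.map_mul).symm]
    have hmem : (A₀ (i + 1) * A₀ i) s t ∈ T :=
      Finset.mem_biUnion.2 ⟨i, hin i t.pos, Finset.mem_image.2 ⟨(s, t), Finset.mem_univ _, rfl⟩⟩
    show g ((A₀ (i + 1) * A₀ i) s t) = 0
    have e : (j.appLE W₀ ⊤ (fun y _ => hUW y.2)) = X.presheaf.map (homOfLE hUW).op ≫ j.appLE U ⊤ (fun y _ => y.2) :=
      (Scheme.Hom.map_appLE _ _ _).symm
    show (j.appLE W₀ ⊤ (fun y _ => hUW y.2)) _ = 0
    rw [e, ConcreteCategory.comp_apply, hT _ hmem, map_zero]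
  let K : CochainComplex (U : Scheme.{u}).Modules ℤ :=
    CochainComplex.of (fun i => FlatMod.freeMod (U : Scheme.{u}) (n i)) (fun i => ofMat (B i))
      (fun i => by rw [ofMat_comp, hB, ofMat_zero])
  let F' := ((Scheme.Modules.pushforward j).mapHomologicalComplex (ComplexShape.up ℤ)).obj K
  refine ⟨U, F', hxU, ?_, ⟨DerivedCategory.Q.mapIso ?_ ≪≫ eE⟩⟩
  · have hK : DCoh.IsStrictlyPerfect K :=
      ⟨⟨a, b, fun i hi => isZero_freeMod (hn0 i hi)⟩, fun i => isFinLocFree_freeMod _⟩
    have e : (DCoh.restrictCx U).obj F' ≅ K :=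
      HomologicalComplex.Hom.isoOfComponents (fun i => (asIso (Scheme.Modules.restrictAdjunction j).counit).app (K.X i))
        (fun i k _ => ((Scheme.Modules.restrictAdjunction j).counit.naturality (K.d i k)).symm)
    refine Groth.L29.DC.perfect_of_on fun y => ⟨_, (⊤ : (U : Scheme.{u}).Opens).ι, inferInstance, by simp, ?_⟩
    exact Groth.L29.DC.PWit.restrict _ ⟨K, hK, ⟨DerivedCategory.Q.mapIso e⟩⟩
  · let w : (U : Scheme.{u}) := ⟨x, hxU⟩
    let c : ∀ i, ((DerSch.stalkFunctor X x).obj ((Scheme.Modules.pushforward j).obj (K.X i))) ≃ₗ[R] E.X i := fun i =>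
      pushStalkEquiv j w (FlatMod.freeMod (U : Scheme.{u}) (n i)) ≪≫ₗ coord (ρ j w) (n i) ≪≫ₗ (bas i).equivFun.symm
    refine HomologicalComplex.Hom.isoOfComponents (fun i => (c i).toModuleIso) ?_
    rintro i _ (rfl : i + 1 = _)
    refine ModuleCat.hom_ext (LinearMap.ext fun m => ?_)
    show (E.d i (i + 1)).hom (c i m) = c (i + 1)
      ((DerSch.stalkFunctor X x).map ((Scheme.Modules.pushforward j).map (K.d i (i + 1))) m)
    have hKd : K.d i (i + 1) = ofMat (B i) :=
      CochainComplex.of_d (fun i => FlatMod.freeMod (U : Scheme.{u}) (n i)) (fun i => ofMat (B i)) i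
    rw [hKd]
    show _ = (bas (i + 1)).equivFun.symm (coord (ρ j w) _ (pushStalkEquiv j w _
      ((DerSch.stalkFunctor X (j w)).map ((Scheme.Modules.pushforward j).map (ofMat (B i))) m)))
    rw [pushStalkEquiv_naturality]
    set v := pushStalkEquiv j w (FlatMod.freeMod (U : Scheme.{u}) (n i)) m with hv'
    have h1 : coord (ρ j w) (n (i + 1)) (((Φ (ρ j w)).map (ofMat (B i))).hom v) =
        ((B i).map (ev (ρ j w))).mulVec (coord (ρ j w) (n i) v) := by
      have h2 := LinearMap.congr_fun (coord_map (ρ j w) (ofMat (B i))) (coord (ρ j w) (n i) v)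
      rw [mat_ofMat] at h2
      simpa using h2
    have h3 : (B i).map (ev (ρ j w)) = A i := by
      rw [show A i = (A₀ i).map (X.presheaf.germ W₀ x hx₀).hom from (hA₀ i).symm]
      refine Matrix.ext fun s t => ?_
      exact ev_appLE j w hx₀ _ _
    rw [h1, h3]
    show _ = (bas (i + 1)).equivFun.symm ((LinearMap.toMatrix (bas i) (bas (i + 1)) (E.d i (i + 1)).hom).mulVec _)
    apply (bas (i + 1)).equivFun.injective
    rw [LinearEquiv.apply_symm_apply]
    have h4 := LinearMap.toMatrix_mulVec_repr (bas i) (bas (i + 1)) (E.d i (i + 1)).hom (c i m)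
    rw [Module.Basis.equivFun_apply, ← h4]
    congr 1
    show ⇑((bas i).repr ((bas i).equivFun.symm _)) = _
    rw [← Module.Basis.equivFun_apply, LinearEquiv.apply_symm_apply]
    rfl

end Groth.L04.KSix
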